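import Mathlib
import Cfsg.Prelude.Def_GeometricClasses
import Cfsg.Agent.Lib.MaxClass.Degree
import Cfsg.Agent.Lib.Aschbacher.SymplType

/-!
An absolutely irreducible group of symplectic type of order 64 in `GL_4` with a centre of order 4: an adapted frame of
two commuting pairs of anticommuting involutions.
-/

set_option autoImplicit false

namespace Cfsg.Agent.Lib.SympFour

open Matrix

variable {F : Type*} [Field F]

/-- The matrix of an element of the group. -/
def mat (R : Subgroup (GL (Fin 4) F)) : R →* Matrix (Fin 4) (Fin 4) F :=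
  (Units.coeHom (Matrix (Fin 4) (Fin 4) F)).comp R.subtype

lemma mat_ne_zero {R : Subgroup (GL (Fin 4) F)} (x : R) : mat R x ≠ 0 :=
  (x : GL (Fin 4) F).ne_zero

lemma mat_injective (R : Subgroup (GL (Fin 4) F)) : Function.Injective (mat R) :=
  fun _ _ h => Subtype.ext (Units.ext h)

lemma ne_neg_self (h2 : (2 : F) ≠ 0) {M : Matrix (Fin 4) (Fin 4) F} (hM : M ≠ 0) : M ≠ -M := by
  intro h
  apply hM
  have h' : (2 : F) • M = 0 := by rw [two_smul]; nth_rw 2 [h]; exact add_neg_cancel M
  exact (smul_eq_zero.1 h').resolve_left h2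

/-- The adapted frame: `R` is generated by the scalars of order dividing four and four involutions. -/
structure Frame (R : Subgroup (GL (Fin 4) F)) where
  i : F
  hi : i * i = -1
  two : (2 : F) ≠ 0
  card : Nat.card R = 64
  a : R
  b : R
  c : R
  d : R
  comm : ∀ x y : R, mat R x * mat R y = mat R y * mat R x ∨ mat R x * mat R y = -(mat R y * mat R x)
  central : ∀ x : R, (∀ y : R, x * y = y * x) → ∃ k : F, k ^ 4 = 1 ∧ mat R x = k • 1
  scal : ∀ k : F, k ^ 4 = 1 → ∃ x : R, mat R x = k • 1
  sq : ∀ x : R, mat R x * mat R x = 1 ∨ mat R x * mat R x = -1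
  haa : mat R a * mat R a = 1
  hbb : mat R b * mat R b = 1
  hcc : mat R c * mat R c = 1
  hdd : mat R d * mat R d = 1
  hba : mat R b * mat R a = -(mat R a * mat R b)
  hdc : mat R d * mat R c = -(mat R c * mat R d)
  hca : mat R c * mat R a = mat R a * mat R c
  hcb : mat R c * mat R b = mat R b * mat R c
  hda : mat R d * mat R a = mat R a * mat R d
  hdb : mat R d * mat R b = mat R b * mat R d

/-- The group data without a frame. -/
theorem exists_base {R : Subgroup (GL (Fin 4) F)} (hS : Cfsg.Geo.IsSymplecticTypeGroup 2 R)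
    (hirr : Cfsg.Geo.ActsAbsolutelyIrreducibly (Cfsg.Geo.matrixSet R)) (hcard : Nat.card R = 64)
    (hZ : Nat.card (Subgroup.center R) = 4) (h2 : (2 : F) ≠ 0) :
    ∃ i : F, i * i = -1 ∧
      (∀ x y : R, mat R x * mat R y = mat R y * mat R x ∨ mat R x * mat R y = -(mat R y * mat R x)) ∧
      (∀ x : R, (∀ y : R, x * y = y * x) → ∃ k : F, k ^ 4 = 1 ∧ mat R x = k • 1) ∧
      (∀ k : F, k ^ 4 = 1 → ∃ x : R, mat R x = k • 1) ∧
      (∀ x : R, mat R x * mat R x = 1 ∨ mat R x * mat R x = -1) := by
  classical
  haveI : Finite R := Nat.finite_of_card_ne_zero (by omega)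
  haveI := Fact.mk (by norm_num : Nat.Prime 2)
  have hexp : Monoid.exponent R = 4 := by rw [hS.exponent_eq]; norm_num
  have h4 : ∀ x : R, x ^ 4 = 1 := fun x =>
    (congrArg (fun n => x ^ n) hexp).symm.trans (Monoid.pow_exponent_eq_one x)
  have hclass := MaxClass.commutator_le_center_of_exponent hS.pGroup hS.cyclic_of_characteristic
    (by rw [hexp, hZ])
  have hsc : ∀ x : R, x ∈ Subgroup.center R → ∃ k : F, k ^ 4 = 1 ∧ mat R x = k • 1 := by
    intro x hx
    obtain ⟨k, hk⟩ := hirr.2 (mat R x) (by
      rintro _ ⟨g, hg, rfl⟩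
      exact congrArg (mat R) ((Subgroup.mem_center_iff.1 hx ⟨g, hg⟩).symm))
    refine ⟨k, ?_, hk⟩
    have h := congrArg (mat R) (h4 x)
    rw [map_pow, hk, map_one, _root_.smul_pow, one_pow] at h
    have h' := congrFun (congrFun h 0) 0
    simpa using h'
  -- a primitive fourth root of unity
  obtain ⟨i, hi4, hi⟩ : ∃ i : F, i ^ 4 = 1 ∧ i * i = -1 := by
    by_contra hno
    push Not at hno
    have hle : Nat.card (Subgroup.center R) ≤ 2 := by
      let f : Subgroup.center R → Bool := fun x => decide (mat R x.1 = 1)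
      refine (Nat.card_le_card_of_injective f ?_).trans (by simp)
      intro x y hxy
      have hval : ∀ z : Subgroup.center R, mat R z.1 = 1 ∨ mat R z.1 = -1 := by
        intro z
        obtain ⟨k, hk, hzk⟩ := hsc z.1 z.2
        have hk2 : (k * k - 1) * (k * k + 1) = 0 := by linear_combination hk
        rcases mul_eq_zero.1 hk2 with h | h
        · rcases mul_self_eq_one_iff.1 (sub_eq_zero.1 h) with rfl | rfl
          · left; rw [hzk, one_smul]
          · right; rw [hzk, neg_smul, one_smul]
        · exact absurd (eq_neg_of_add_eq_zero_left h) (hno k hk)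
      apply Subtype.ext
      apply mat_injective R
      rcases hval x with hx | hx <;> rcases hval y with hy | hy
      · rw [hx, hy]
      · exfalso
        simp only [f, hx, hy, decide_true, decide_eq_decide] at hxy
        exact ne_neg_self h2 one_ne_zero (by simpa [eq_comm] using hxy)
      · exfalso
        simp only [f, hx, hy, decide_true, decide_eq_decide] at hxy
        exact ne_neg_self h2 one_ne_zero (by simpa [eq_comm] using hxy)
      · rw [hx, hy]
    omega
  have hscal : ∀ k : F, k ^ 4 = 1 → ∃ x : R, x ∈ Subgroup.center R ∧ mat R x = k • 1 := by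
    intro k hk
    by_contra hno
    push Not at hno
    -- the centre has at most three elements
    let T : Finset F := ({1, -1, i, -i} : Finset F).erase k
    have hmem : ∀ l : F, l ^ 4 = 1 → l ∈ ({1, -1, i, -i} : Finset F) := by
      intro l hl
      have : (l - 1) * (l + 1) * ((l - i) * (l + i)) = 0 := by linear_combination hl - (l * l - 1) * hi
      simp only [Finset.mem_insert, Finset.mem_singleton]
      rcases mul_eq_zero.1 this with h | h <;> rcases mul_eq_zero.1 h with h | h
      · left; exact sub_eq_zero.1 h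
      · right; left; exact eq_neg_of_add_eq_zero_left h
      · right; right; left; exact sub_eq_zero.1 h
      · right; right; right; exact eq_neg_of_add_eq_zero_left h
    have hT : T.card ≤ 3 := by
      rw [Finset.card_erase_of_mem (hmem k hk)]
      have : ({1, -1, i, -i} : Finset F).card ≤ 4 := by
        refine (Finset.card_insert_le _ _).trans ?_
        refine Nat.succ_le_succ ?_
        refine (Finset.card_insert_le _ _).trans ?_
        refine Nat.succ_le_succ ?_
        exact Finset.card_le_two
      omega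
    choose f hf4 hf using fun x : Subgroup.center R => hsc x.1 x.2
    have hfT : ∀ x, f x ∈ T := fun x => Finset.mem_erase.2
      ⟨fun h => hno x.1 x.2 (by rw [hf x, h]), hmem _ (hf4 x)⟩
    have := Nat.card_le_card_of_injective (fun x => (⟨f x, hfT x⟩ : T)) (fun x y h => by
      have hxy : f x = f y := congrArg Subtype.val h
      exact Subtype.ext (mat_injective R (by rw [hf x, hf y, hxy])))
    rw [hZ, Nat.card_eq_fintype_card, Fintype.card_coe] at this
    omega
  -- commutators are signs
  have hcom : ∀ x y : R, mat R x * mat R y = mat R y * mat R x ∨ mat R x * mat R y = -(mat R y * mat R x) := by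
    intro x y
    set z : R := y * x * y⁻¹ * x⁻¹ with hzdef
    have hz : z ∈ Subgroup.center R :=
      hclass (Subgroup.commutator_mem_commutator (Subgroup.mem_top y) (Subgroup.mem_top x))
    have hzc : ∀ w, z * w = w * z := fun w => (Subgroup.mem_center_iff.1 hz w).symm
    have hyx : y * x = z * (x * y) := by rw [hzdef]; group
    have h6 := Cfsg.Agent.Lib.Aschbacher.mul_pow_of_commutator_central hyx hzc 4
    rw [h4, h4, h4, one_mul, mul_one, show (4 : ℕ).choose 2 = 4 + 2 by rfl, pow_add, h4, one_mul] at h6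
    obtain ⟨k, hk4, hk⟩ := hsc z hz
    have hk2 : k * k = 1 := by
      have h := congrArg (mat R) h6.symm
      rw [map_pow, hk, map_one, _root_.smul_pow, one_pow] at h
      simpa [pow_two] using congrFun (congrFun h 0) 0
    have h := congrArg (mat R) hyx
    rw [map_mul (mat R) y x, map_mul (mat R) z, map_mul (mat R) x y, hk, Matrix.smul_mul, one_mul] at h
    rcases mul_self_eq_one_iff.1 hk2 with rfl | rfl
    · left; rw [h, one_smul]
    · right; rw [h, neg_smul, one_smul, neg_neg]
  refine ⟨i, hi, hcom, fun x hx => hsc x (Subgroup.mem_center_iff.2 fun y => (hx y).symm),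
    fun k hk => ?_, fun x => ?_⟩
  · obtain ⟨x, -, hx⟩ := hscal k hk
    exact ⟨x, hx⟩
  · have hx2 : x * x ∈ Subgroup.center R := by
      rw [Subgroup.mem_center_iff]
      intro y
      apply mat_injective R
      rw [map_mul, map_mul, map_mul]
      have hc1 : ∀ Y X : Matrix (Fin 4) (Fin 4) F, Y * X = X * Y ∨ Y * X = -(X * Y) →
          Y * (X * X) = X * X * Y := by
        rintro Y X (h | h)
        · rw [← mul_assoc, h, mul_assoc, h, ← mul_assoc]
        · rw [← mul_assoc, h, neg_mul, mul_assoc, h, mul_neg, neg_neg, ← mul_assoc]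
      exact hc1 _ _ (hcom y x)
    obtain ⟨k, -, hk⟩ := hsc _ hx2
    have h := congrArg (mat R) (h4 x)
    rw [show x ^ 4 = (x * x) * (x * x) by simp [pow_succ, mul_assoc], map_mul, hk, map_one,
      Matrix.smul_mul, one_mul, smul_smul] at h
    have hk2 : k * k = 1 := by simpa using congrFun (congrFun h 0) 0
    rw [map_mul] at hk
    rcases mul_self_eq_one_iff.1 hk2 with rfl | rfl
    · left; rw [hk, one_smul]
    · right; rw [hk, neg_smul, one_smul]

theorem exists_frame {R : Subgroup (GL (Fin 4) F)} (hS : Cfsg.Geo.IsSymplecticTypeGroup 2 R)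
    (hirr : Cfsg.Geo.ActsAbsolutelyIrreducibly (Cfsg.Geo.matrixSet R)) (hcard : Nat.card R = 64)
    (hZ : Nat.card (Subgroup.center R) = 4) (h2 : (2 : F) ≠ 0) : Nonempty (Frame R) := by
  classical
  haveI : Finite R := Nat.finite_of_card_ne_zero (by omega)
  obtain ⟨i, hi, hcom, hcen, hscal, hsq⟩ := exists_base hS hirr hcard hZ h2
  obtain ⟨zi, hzi⟩ := hscal i (by linear_combination (i * i - 1) * hi)
  -- rescale to involutions, keeping all commutation relations
  have hinv : ∀ x : R, ∃ x' : R, mat R x' * mat R x' = 1 ∧ ∀ M : Matrix (Fin 4) (Fin 4) F,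
      (mat R x * M = M * mat R x → mat R x' * M = M * mat R x') ∧
      (mat R x * M = -(M * mat R x) → mat R x' * M = -(M * mat R x')) := by
    intro x
    rcases hsq x with h | h
    · exact ⟨x, h, fun M => ⟨id, id⟩⟩
    · refine ⟨zi * x, ?_, fun M => ⟨fun hM => ?_, fun hM => ?_⟩⟩ <;>
        rw [map_mul, hzi, Matrix.smul_mul, one_mul]
      · rw [Matrix.smul_mul, Matrix.mul_smul, smul_smul, h, hi, smul_neg, neg_smul, one_smul, neg_neg]
      · rw [Matrix.smul_mul, Matrix.mul_smul, hM]
      · rw [Matrix.smul_mul, Matrix.mul_smul, hM, smul_neg]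
  have hpartner : ∀ x : R, (¬ ∃ k : F, mat R x = k • 1) →
      ∃ y : R, mat R y * mat R x = -(mat R x * mat R y) := by
    intro x hx
    by_contra hno
    push Not at hno
    obtain ⟨k, -, hk⟩ := hcen x fun y => mat_injective R (by
      rw [map_mul, map_mul]
      exact (((hcom y x).resolve_right (hno y))).symm)
    exact hx ⟨k, hk⟩
  have hfour : ∀ k : F, ∀ x : R, mat R x = k • 1 → k ^ 4 = 1 := by
    intro k x hk
    have hcx : ∀ y : R, x * y = y * x := fun y => mat_injective R (by
      rw [map_mul, map_mul, hk, Matrix.smul_mul, one_mul, Matrix.mul_smul, mul_one])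
    obtain ⟨l, hl, hxl⟩ := hcen x hcx
    rw [hk] at hxl
    have : k = l := by simpa using congrFun (congrFun hxl 0) 0
    rw [this, hl]
  obtain ⟨x₀, hx₀⟩ : ∃ x : R, ¬ ∃ k : F, mat R x = k • 1 := by
    by_contra hno
    push Not at hno
    have hle : Nat.card R ≤ Nat.card (Subgroup.center R) :=
      Nat.card_le_card_of_injective (fun x => (⟨x, Subgroup.mem_center_iff.2 fun y => mat_injective R (by
        obtain ⟨k, hk⟩ := hno x
        rw [map_mul, map_mul, hk, Matrix.smul_mul, one_mul, Matrix.mul_smul, mul_one])⟩ : Subgroup.center R))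
        (fun x y h => congrArg Subtype.val h)
    omega
  obtain ⟨y₀, hy₀⟩ := hpartner x₀ hx₀
  obtain ⟨a, haa, ha⟩ := hinv x₀
  obtain ⟨b, hbb, hb⟩ := hinv y₀
  have hba : mat R b * mat R a = -(mat R a * mat R b) := by
    have h1 := (ha (mat R y₀)).2 (by rw [hy₀, neg_neg])
    exact (hb (mat R a)).2 (by rw [h1, neg_neg])
  have hab : mat R a * mat R b = -(mat R b * mat R a) := by rw [hba, neg_neg]
  -- every element becomes commuting with both after a correction
  have hcorr : ∀ x : R, ∃ w : R, (w = 1 ∨ w = a ∨ w = b ∨ w = a * b) ∧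
      mat R (x * w) * mat R a = mat R a * mat R (x * w) ∧ mat R (x * w) * mat R b = mat R b * mat R (x * w) := by
    intro x
    rcases hcom x a with h1 | h1 <;> rcases hcom x b with h2' | h2'
    · exact ⟨1, Or.inl rfl, by rw [mul_one, h1], by rw [mul_one, h2']⟩
    · refine ⟨a, Or.inr (Or.inl rfl), ?_, ?_⟩ <;> rw [map_mul]
      · rw [← mul_assoc, ← h1]
      · rw [mul_assoc, hab, mul_neg, ← mul_assoc, h2', neg_mul, neg_neg, mul_assoc]
    · refine ⟨b, Or.inr (Or.inr (Or.inl rfl)), ?_, ?_⟩ <;> rw [map_mul]
      · rw [mul_assoc, hba, mul_neg, ← mul_assoc, h1, neg_mul, neg_neg, mul_assoc]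
      · rw [← mul_assoc, ← h2']
    · refine ⟨a * b, Or.inr (Or.inr (Or.inr rfl)), ?_, ?_⟩ <;> rw [map_mul, map_mul]
      · rw [mul_assoc, mul_assoc, hba, mul_neg, mul_neg, ← mul_assoc (mat R x), h1, neg_mul, neg_neg, mul_assoc]
      · calc mat R x * (mat R a * mat R b) * mat R b
            = mat R x * mat R a := by rw [mul_assoc, mul_assoc, hbb, mul_one]
          _ = mat R b * (mat R x * (mat R a * mat R b)) := by
              rw [hab, mul_neg, mul_neg, ← mul_assoc (mat R x), h2', neg_mul, mul_neg, neg_neg,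
                mul_assoc (mat R b), ← mul_assoc (mat R b), hbb, one_mul]
  -- an element outside the span of the first pair
  obtain ⟨x₁, hx₁a, hx₁b, hx₁⟩ : ∃ x : R, mat R x * mat R a = mat R a * mat R x ∧
      mat R x * mat R b = mat R b * mat R x ∧ ¬ ∃ k : F, mat R x = k • 1 := by
    by_contra hno
    push Not at hno
    choose w hw hwa hwb using hcorr
    choose k hk using fun x => hno _ (hwa x) (hwb x)
    let S : Finset R := {1, a, b, a * b}
    let G : R → Subgroup.center R × S := fun x =>
      (⟨x * w x, Subgroup.mem_center_iff.2 fun y => mat_injective R (by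
          rw [map_mul _ y, map_mul _ (x * w x), hk x, Matrix.smul_mul, one_mul, Matrix.mul_smul, mul_one])⟩,
        ⟨w x, by simp only [S, Finset.mem_insert, Finset.mem_singleton]; exact hw x⟩)
    have hG : Function.Injective G := by
      intro x y h
      simp only [G, Prod.mk.injEq, Subtype.mk.injEq] at h
      obtain ⟨h1, h3⟩ := h
      rw [h3] at h1
      exact mul_right_cancel h1
    have h := Nat.card_le_card_of_injective G hG
    have hS4 : S.card ≤ 4 := Finset.card_le_four
    rw [Nat.card_prod, hZ, hcard, Nat.card_eq_fintype_card, Fintype.card_coe] at h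
    omega
  obtain ⟨c, hcc, hc⟩ := hinv x₁
  have hca := (hc (mat R a)).1 hx₁a
  have hcb := (hc (mat R b)).1 hx₁b
  have hcns : ¬ ∃ k : F, mat R c = k • 1 := by
    rintro ⟨k, hk⟩
    obtain ⟨y, hy⟩ := hpartner x₁ hx₁
    have h := (hc (mat R y)).2 (by rw [hy, neg_neg])
    rw [hk, Matrix.smul_mul, one_mul, Matrix.mul_smul, mul_one] at h
    have hne : k • mat R y ≠ 0 := by
      intro h0
      rcases smul_eq_zero.1 h0 with h0 | h0
      · exact mat_ne_zero c (by rw [hk, h0, zero_smul])
      · exact mat_ne_zero y h0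
    exact ne_neg_self h2 hne h
  obtain ⟨y₁, hy₁⟩ := hpartner c hcns
  obtain ⟨w, hw, hwa, hwb⟩ := hcorr y₁
  obtain ⟨d, hdd, hd⟩ := hinv (y₁ * w)
  have hwc : mat R w * mat R c = mat R c * mat R w := by
    rcases hw with rfl | rfl | rfl | rfl
    · rw [map_one, one_mul, mul_one]
    · exact hca.symm
    · exact hcb.symm
    · rw [map_mul, mul_assoc, ← hcb, ← mul_assoc, ← hca, mul_assoc]
  refine ⟨⟨i, hi, h2, hcard, a, b, c, d, hcom, hcen, hscal, hsq, haa, hbb, hcc, hdd, hba, ?_, hca, hcb,
    (hd (mat R a)).1 hwa, (hd (mat R b)).1 hwb⟩⟩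
  exact (hd (mat R c)).2 (by rw [map_mul, mul_assoc, hwc, ← mul_assoc, hy₁, neg_mul, mul_assoc])

end Cfsg.Agent.Lib.SympFour
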