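import Cfsg.Agent.Lib.SympFour.Core

/-!
The coordinates of a symplectic-type group of order 64 in `GL_4`: a basis of the matrix algebra indexed by `𝔽₂⁴`, and
the monomial action of the normaliser on it.
-/

set_option autoImplicit false

namespace Cfsg.Agent.Lib.SympFour

open Matrix

variable {F : Type*} [Field F]

/-- The coordinate space. -/
abbrev V4 := Fin 4 → ZMod 2

namespace Frame

variable {R : Subgroup (GL (Fin 4) F)} (Φ : Frame R)

/-- The commutation sign with a fixed element. -/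
noncomputable def sgnE (_Φ : Frame R) (x e : R) : ZMod 2 := by
  classical exact if mat R x * mat R e = mat R e * mat R x then 0 else 1

/-- The test elements, dual to the frame. -/
def test : Fin 4 → R := ![Φ.b, Φ.a, Φ.d, Φ.c]

lemma sgnE_one_iff (x e : R) : Φ.sgnE x e = 1 ↔ mat R x * mat R e = -(mat R e * mat R x) := by
  unfold sgnE
  split_ifs with h
  · refine ⟨fun h' => absurd h' zero_ne_one, fun h' => ?_⟩
    exfalso
    apply ne_neg_self Φ.two (M := mat R e * mat R x) (by rw [← map_mul]; exact mat_ne_zero _)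
    exact h.symm.trans h'
  · exact ⟨fun _ => (Φ.comm x e).resolve_left h, fun _ => rfl⟩

lemma sgnE_zero_iff (x e : R) : Φ.sgnE x e = 0 ↔ mat R x * mat R e = mat R e * mat R x := by
  unfold sgnE
  split_ifs with h
  · exact ⟨fun _ => h, fun _ => rfl⟩
  · exact ⟨fun h' => absurd h' one_ne_zero, fun h' => absurd h' h⟩

lemma sgnE_mul (x y e : R) : Φ.sgnE (x * y) e = Φ.sgnE x e + Φ.sgnE y e := by
  have h01 : ∀ z : ZMod 2, z = 0 ∨ z = 1 := by decide
  rcases h01 (Φ.sgnE x e) with hx | hx <;> rcases h01 (Φ.sgnE y e) with hy | hy <;> rw [hx, hy] <;>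
    simp only [sgnE_zero_iff, sgnE_one_iff, zero_add, add_zero, show (1 : ZMod 2) + 1 = 0 from rfl, map_mul] at *
  · rw [mul_assoc, hy, ← mul_assoc, hx, mul_assoc]
  · rw [mul_assoc, hy, mul_neg, ← mul_assoc, hx, mul_assoc]
  · rw [mul_assoc, hy, ← mul_assoc, hx, neg_mul, mul_assoc]
  · rw [mul_assoc, hy, mul_neg, ← mul_assoc, hx, neg_mul, neg_neg, mul_assoc]

/-- The coordinates of an element. -/
noncomputable def tHom : R →* Multiplicative V4 where
  toFun x := Multiplicative.ofAdd fun k => Φ.sgnE x (Φ.test k)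
  map_one' := by
    apply Multiplicative.ext
    funext k
    exact (Φ.sgnE_zero_iff _ _).2 (by rw [map_one, one_mul, mul_one])
  map_mul' x y := by
    apply Multiplicative.ext
    funext k
    exact Φ.sgnE_mul x y _

/-- The coordinates, additively. -/
noncomputable def t (x : R) : V4 := (Φ.tHom x).toAdd

lemma t_apply (x : R) (k : Fin 4) : Φ.t x k = Φ.sgnE x (Φ.test k) := rfl
lemma t_mul (x y : R) : Φ.t (x * y) = Φ.t x + Φ.t y := by simp [t]
lemma t_one : Φ.t (1 : R) = 0 := by simp [t]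

lemma sgnE_self (x : R) : Φ.sgnE x x = 0 := (Φ.sgnE_zero_iff _ _).2 rfl

lemma t_a : Φ.t Φ.a = ![1, 0, 0, 0] := by
  funext k
  fin_cases k <;> simp [t_apply, test, sgnE_zero_iff, sgnE_one_iff, Φ.hba, Φ.hca, Φ.hda]

lemma t_b : Φ.t Φ.b = ![0, 1, 0, 0] := by
  funext k
  fin_cases k <;> simp [t_apply, test, sgnE_zero_iff, sgnE_one_iff, Φ.hba, Φ.hcb, Φ.hdb]

lemma t_c : Φ.t Φ.c = ![0, 0, 1, 0] := by
  funext k
  fin_cases k <;> simp [t_apply, test, sgnE_zero_iff, sgnE_one_iff, Φ.hdc, Φ.hca, Φ.hcb]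

lemma t_d : Φ.t Φ.d = ![0, 0, 0, 1] := by
  funext k
  fin_cases k <;> simp [t_apply, test, sgnE_zero_iff, sgnE_one_iff, Φ.hdc, Φ.hda, Φ.hdb]

lemma t_surjective : Function.Surjective Φ.t := by
  intro v
  let pw : ZMod 2 → R → R := fun z x => if z = 0 then 1 else x
  refine ⟨pw (v 0) Φ.a * pw (v 1) Φ.b * pw (v 2) Φ.c * pw (v 3) Φ.d, ?_⟩
  have h01 : ∀ z : ZMod 2, z = 0 ∨ z = 1 := by decide
  have hp : ∀ z x, Φ.t (pw z x) = z • Φ.t x := by
    intro z x
    rcases h01 z with rfl | rfl <;> simp [pw, t_one]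
  rw [t_mul, t_mul, t_mul, hp, hp, hp, hp, t_a, t_b, t_c, t_d]
  funext k
  fin_cases k <;> simp

lemma t_eq_zero_iff (x : R) : Φ.t x = 0 ↔ ∃ k : F, k ^ 4 = 1 ∧ mat R x = k • 1 := by
  have hscalar : ∀ (y : R) (k : F), mat R y = k • 1 → Φ.t y = 0 := by
    intro y k hk
    funext j
    exact (Φ.sgnE_zero_iff _ _).2 (by rw [hk, Matrix.smul_mul, one_mul, Matrix.mul_smul, mul_one])
  refine ⟨fun hx => ?_, fun ⟨k, _, hk⟩ => hscalar x k hk⟩
  haveI : Finite R := Nat.finite_of_card_ne_zero (by have := Φ.card; omega)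
  have hker : Nat.card Φ.tHom.ker = 4 := by
    have h := Subgroup.card_mul_index Φ.tHom.ker
    rw [Subgroup.index_ker, MonoidHom.range_eq_top.2 (fun w => ?_), Subgroup.card_top, Φ.card] at h
    · rw [show Nat.card (Multiplicative V4) = 16 by simp [Nat.card_eq_fintype_card]] at h
      omega
    · obtain ⟨y, hy⟩ := Φ.t_surjective w.toAdd
      exact ⟨y, Multiplicative.ext hy⟩
  have h4 : ∀ j : Fin 4, (![1, -1, Φ.i, -Φ.i] j) ^ 4 = 1 := by
    intro j
    fin_cases j <;> simp
    · linear_combination (-1 : F) * 0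
    all_goals linear_combination (Φ.i * Φ.i - 1) * Φ.hi
  choose f hf using fun j => Φ.scal _ (h4 j)
  let g : Fin 4 → Φ.tHom.ker := fun j =>
    ⟨f j, MonoidHom.mem_ker.2 (Multiplicative.ext (hscalar _ _ (hf j)))⟩
  have hii : Φ.i ≠ 0 := fun h => by simpa [h] using Φ.hi
  have h1 : (1 : F) ≠ -1 := fun h => Φ.two (by linear_combination h)
  have hi1 : Φ.i ≠ 1 := fun h => h1 (by simpa [h] using Φ.hi)
  have hi2 : Φ.i ≠ -1 := fun h => h1 (by simpa [h] using Φ.hi)
  have hi3 : Φ.i ≠ -Φ.i := fun h => hii (by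
    have : (2 : F) * Φ.i = 0 := by linear_combination h
    exact (mul_eq_zero.1 this).resolve_left Φ.two)
  have hg : Function.Injective g := by
    intro j j' h
    have hfj : f j = f j' := congrArg Subtype.val h
    have h' : mat R (f j) = mat R (f j') := by rw [hfj]
    rw [hf, hf] at h'
    have h'' : (![1, -1, Φ.i, -Φ.i] j) = ![1, -1, Φ.i, -Φ.i] j' := by
      simpa using congrFun (congrFun h' 0) 0
    fin_cases j <;> fin_cases j' <;> simp at h'' ⊢ <;>
      first
        | exact h1 h'' | exact h1 h''.symm | exact hi1 h'' | exact hi1 h''.symm | exact hi2 h''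
        | exact hi2 h''.symm | exact hi3 h'' | exact hi3 h''.symm
        | exact hi1 (neg_injective (by linear_combination h''))
        | exact hi2 (by linear_combination h'') | exact hi2 (by linear_combination -h'')
        | exact hi1 (by linear_combination h'') | exact hi1 (by linear_combination -h'')
  have hs := (Nat.bijective_iff_injective_and_card g).2 ⟨hg, by rw [hker, Nat.card_fin]⟩
  obtain ⟨j, hj⟩ := hs.2 ⟨x, MonoidHom.mem_ker.2 (Multiplicative.ext hx)⟩
  exact ⟨_, h4 j, by rw [← hf j, show f j = x from congrArg Subtype.val hj]⟩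

lemma exists_smul_of_t_eq {x y : R} (h : Φ.t x = Φ.t y) : ∃ k : F, k ^ 4 = 1 ∧ mat R x = k • mat R y := by
  have h0 : Φ.t (x * y⁻¹) = 0 := by
    have h1 : Φ.t (x * y⁻¹) + Φ.t y = Φ.t x := by rw [← t_mul, inv_mul_cancel_right]
    rw [h] at h1
    simpa using h1
  obtain ⟨k, hk, hxy⟩ := (Φ.t_eq_zero_iff _).1 h0
  refine ⟨k, hk, ?_⟩
  rw [← one_mul (mat R y), ← Matrix.smul_mul, ← hxy, ← map_mul, inv_mul_cancel_right]

lemma exists_involutive (v : V4) : ∃ x : R, Φ.t x = v ∧ mat R x * mat R x = 1 := by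
  obtain ⟨x, hx⟩ := Φ.t_surjective v
  rcases Φ.sq x with h | h
  · exact ⟨x, hx, h⟩
  · obtain ⟨z, hz⟩ := Φ.scal Φ.i (by linear_combination (Φ.i * Φ.i - 1) * Φ.hi)
    refine ⟨z * x, ?_, ?_⟩
    · rw [t_mul, (Φ.t_eq_zero_iff z).2 ⟨_, by linear_combination (Φ.i * Φ.i - 1) * Φ.hi, hz⟩, zero_add, hx]
    · rw [map_mul, hz, Matrix.smul_mul, one_mul, Matrix.smul_mul, Matrix.mul_smul, smul_smul, h, Φ.hi, smul_neg,
        neg_smul, one_smul, neg_neg]

/-- The chosen representative. -/
noncomputable def rep (v : V4) : R := (Φ.exists_involutive v).choose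

/-- The basis matrices. -/
noncomputable def mv (v : V4) : Matrix (Fin 4) (Fin 4) F := mat R (Φ.rep v)

lemma t_rep (v : V4) : Φ.t (Φ.rep v) = v := (Φ.exists_involutive v).choose_spec.1
lemma mv_sq (v : V4) : Φ.mv v * Φ.mv v = 1 := (Φ.exists_involutive v).choose_spec.2

lemma mv_zero : ∃ k : F, k ≠ 0 ∧ Φ.mv 0 = k • 1 := by
  obtain ⟨k, hk, h⟩ := (Φ.t_eq_zero_iff _).1 (Φ.t_rep 0)
  exact ⟨k, fun h0 => by simp [h0] at hk, h⟩

lemma mat_eq_smul_mv (x : R) : ∃ k : F, k ^ 4 = 1 ∧ mat R x = k • Φ.mv (Φ.t x) :=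
  Φ.exists_smul_of_t_eq (Φ.t_rep _).symm

lemma mv_mul (v w : V4) : ∃ k : F, Φ.mv v * Φ.mv w = k • Φ.mv (v + w) := by
  obtain ⟨k, -, h⟩ := Φ.mat_eq_smul_mv (Φ.rep v * Φ.rep w)
  rw [t_mul, t_rep, t_rep, map_mul] at h
  exact ⟨k, h⟩

lemma trace_of_t_ne_zero (x : R) (hx : Φ.t x ≠ 0) : (mat R x).trace = 0 := by
  obtain ⟨k, hk⟩ : ∃ k, Φ.t x k ≠ 0 := Function.ne_iff.1 hx
  have h01 : ∀ z : ZMod 2, z = 0 ∨ z = 1 := by decide
  have h := (Φ.sgnE_one_iff _ _).1 ((h01 _).resolve_left hk)
  have hu : mat R (Φ.test k)⁻¹ * mat R (Φ.test k) = 1 := by rw [← map_mul, inv_mul_cancel, map_one]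
  have hu' : mat R (Φ.test k) * mat R (Φ.test k)⁻¹ = 1 := by rw [← map_mul, mul_inv_cancel, map_one]
  have h2 : (mat R (Φ.test k)⁻¹ * (mat R x * mat R (Φ.test k))).trace = -(mat R x).trace := by
    rw [h, mul_neg, Matrix.trace_neg, ← mul_assoc, hu, one_mul]
  rw [Matrix.trace_mul_comm, mul_assoc, hu', mul_one] at h2
  have : (2 : F) * (mat R x).trace = 0 := by linear_combination h2
  exact (mul_eq_zero.1 this).resolve_left Φ.two

lemma trace_mv_mul (v w : V4) : (Φ.mv v * Φ.mv w).trace = if v = w then 4 else 0 := by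
  split_ifs with h
  · subst h; rw [mv_sq, Matrix.trace_one]; simp
  · rw [mv, mv, ← map_mul]
    refine Φ.trace_of_t_ne_zero _ ?_
    rw [t_mul, t_rep, t_rep]
    intro h0
    apply h
    funext k
    have := congrFun h0 k
    have key : ∀ x y : ZMod 2, x + y = 0 → x = y := by decide
    exact key _ _ this

include Φ in
lemma four_ne : (4 : F) ≠ 0 := by
  rw [show (4 : F) = 2 * 2 by norm_num]
  exact mul_ne_zero Φ.two Φ.two

theorem linearIndependent_mv : LinearIndependent F Φ.mv := by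
  rw [Fintype.linearIndependent_iff]
  intro g hg v
  have h := congrArg (fun M => (M * Φ.mv v).trace) hg
  simp only [Finset.sum_mul, Matrix.trace_sum, Matrix.smul_mul, Matrix.trace_smul, trace_mv_mul, smul_eq_mul,
    mul_ite, mul_zero, Finset.sum_ite_eq', Finset.mem_univ, if_true, Matrix.zero_mul, Matrix.trace_zero] at h
  exact (mul_eq_zero.1 h).resolve_right Φ.four_ne

theorem span_mv : Submodule.span F (Set.range Φ.mv) = ⊤ :=
  Φ.linearIndependent_mv.span_eq_top_of_card_eq_finrank (by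
    rw [Module.finrank_matrix, Module.finrank_self]; simp)

/-- Averaging over the basis. -/
theorem twirl (X : Matrix (Fin 4) (Fin 4) F) : ∑ v, Φ.mv v * X * Φ.mv v = (4 * X.trace) • 1 := by
  have hX : X ∈ Submodule.span F (Set.range Φ.mv) := by rw [Φ.span_mv]; trivial
  induction hX using Submodule.span_induction with
  | zero => simp
  | add x y _ _ hx hy => simp [mul_add, add_mul, Finset.sum_add_distrib, hx, hy, add_smul]
  | smul k x _ hx =>
    simp only [Matrix.mul_smul, Matrix.smul_mul, ← Finset.smul_sum, hx, Matrix.trace_smul, smul_smul, smul_eq_mul]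
    ring_nf
  | mem x hx =>
    obtain ⟨w, rfl⟩ := hx
    by_cases hw : w = 0
    · subst hw
      obtain ⟨k, -, hk⟩ := Φ.mv_zero
      rw [hk, Matrix.trace_smul, Matrix.trace_one]
      simp only [Matrix.mul_smul, mul_one, Matrix.smul_mul, mv_sq, Finset.sum_const, Finset.card_univ,
        smul_eq_mul]
      rw [← smul_assoc]
      congr 1
      simp [Fintype.card_pi]
      ring
    · rw [mv, Φ.trace_of_t_ne_zero _ (by rwa [t_rep]), mul_zero, zero_smul]
      obtain ⟨k, hk⟩ : ∃ k, w k ≠ 0 := Function.ne_iff.1 hw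
      -- pair each index with its translate by a coordinate detecting `w`
      set e := Φ.t (Φ.test k) with he
      have h01 : ∀ z : ZMod 2, z = 0 ∨ z = 1 := by decide
      have hek : mat R (Φ.rep w) * mat R (Φ.test k) = -(mat R (Φ.test k) * mat R (Φ.rep w)) :=
        (Φ.sgnE_one_iff _ _).1 (by rw [← t_apply, t_rep]; exact (h01 _).resolve_left hk)
      refine Finset.sum_involution (fun v _ => v + e) ?_ ?_ (fun _ _ => Finset.mem_univ _) ?_
      · intro v _
        obtain ⟨l, -, hl⟩ := Φ.exists_smul_of_t_eq (x := Φ.rep (v + e)) (y := Φ.rep v * Φ.test k)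
          (by rw [t_rep, t_mul, t_rep])
        obtain ⟨l', -, hl'⟩ := Φ.exists_smul_of_t_eq (x := Φ.rep (v + e)) (y := Φ.test k * Φ.rep v)
          (by rw [t_rep, t_mul, t_rep, add_comm])
        rw [map_mul] at hl hl'
        have hs := Φ.mv_sq (v + e)
        rw [mv] at hs
        nth_rw 1 [hl] at hs
        rw [hl', Matrix.smul_mul, Matrix.mul_smul, smul_smul, mul_assoc, ← mul_assoc (mat R (Φ.test k))] at hs
        have htt : ∀ M : Matrix (Fin 4) (Fin 4) F, mat R (Φ.test k) * (mat R (Φ.test k) * M) = M := by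
          intro M
          rw [← mul_assoc]
          fin_cases k <;> simp [test, Φ.haa, Φ.hbb, Φ.hcc, Φ.hdd]
        rw [mul_assoc (mat R (Φ.test k)), htt, ← mv, mv_sq] at hs
        have hll : l * l' = 1 := by simpa using congrFun (congrFun hs 0) 0
        show Φ.mv v * mat R (Φ.rep w) * Φ.mv v + Φ.mv (v + e) * mat R (Φ.rep w) * Φ.mv (v + e) = 0
        have hsw : Φ.mv (v + e) * mat R (Φ.rep w) * Φ.mv (v + e) = -(Φ.mv v * mat R (Φ.rep w) * Φ.mv v) := by
          rw [mv]
          nth_rw 1 [hl]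
          rw [hl', Matrix.smul_mul, Matrix.smul_mul, Matrix.mul_smul, smul_smul, hll, one_smul, ← mv]
          calc Φ.mv v * mat R (Φ.test k) * mat R (Φ.rep w) * (mat R (Φ.test k) * Φ.mv v)
              = Φ.mv v * (mat R (Φ.test k) * (mat R (Φ.rep w) * mat R (Φ.test k))) * Φ.mv v := by
                simp only [mul_assoc]
            _ = -(Φ.mv v * mat R (Φ.rep w) * Φ.mv v) := by
                rw [hek, mul_neg, htt, mul_neg, neg_mul]
        rw [hsw, add_neg_cancel]
      · intro v _ _ h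
        have he0 : e = 0 := by
          have h' : v + e = v + 0 := by rw [add_zero]; exact h
          exact add_left_cancel h'
        obtain ⟨l, -, hl⟩ := (Φ.t_eq_zero_iff _).1 he0
        rw [hl, Matrix.smul_mul, Matrix.mul_smul, one_mul, mul_one] at hek
        refine ne_neg_self Φ.two ?_ hek
        intro h0
        rcases smul_eq_zero.1 h0 with h0 | h0
        · exact mat_ne_zero (Φ.test k) (by rw [hl, h0, zero_smul])
        · exact mat_ne_zero _ h0
      · intro v _
        funext j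
        show v j + e j + e j = v j
        rw [add_assoc, show e j + e j = 0 from CharTwo.add_self_eq_zero _, add_zero]

end Frame

end Cfsg.Agent.Lib.SympFour
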