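import Cfsg.Agent.Lib.SympFour.Action

/-!
Elements of odd prime order normalising a symplectic-type group of order 64 in `GL_4`: restrictions on their traces and
minimal polynomials.
-/

set_option autoImplicit false

namespace Cfsg.Agent.Lib.SympFour

open Matrix

variable {F : Type*} [Field F]

/-- Fixed points of a permutation of prime period. -/
theorem perm_fix_mod {α : Type*} [Fintype α] [DecidableEq α] {r : ℕ} [Fact r.Prime] (σ : Equiv.Perm α)
    (h : σ ^ r = 1) : (Finset.univ.filter fun x => σ x = x).card % r = Fintype.card α % r := by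
  have h1 : σ ^ r ^ 1 = 1 := by rwa [pow_one]
  have h2 := Equiv.Perm.card_compl_support_modEq h1
  rw [show (Finset.univ.filter fun x => σ x = x) = σ.supportᶜ by ext x; simp]
  exact h2

namespace Frame

variable {R : Subgroup (GL (Fin 4) F)} (Φ : Frame R)

include Φ in
lemma finite : Finite R := Nat.finite_of_card_ne_zero (by have := Φ.card; omega)

/-- A criterion for normalising the group. -/
theorem mem_normalizer (g : GL (Fin 4) F) (ha : g * Φ.a * g⁻¹ ∈ R) (hb : g * Φ.b * g⁻¹ ∈ R)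
    (hc : g * Φ.c * g⁻¹ ∈ R) (hd : g * Φ.d * g⁻¹ ∈ R) : g ∈ Cfsg.Geo.subgroupNormalizer R := by
  haveI := Φ.finite
  set S : Subgroup R := (R.comap (MulAut.conj g).toMonoidHom).subgroupOf R with hS
  have hmem : ∀ x : R, x ∈ S ↔ g * x * g⁻¹ ∈ R := fun x => Iff.rfl
  have hscal : ∀ x : R, Φ.t x = 0 → x ∈ S := by
    intro x hx
    obtain ⟨k, -, hk⟩ := (Φ.t_eq_zero_iff x).1 hx
    rw [hmem]
    have : g * (x : GL (Fin 4) F) = x * g := Units.ext (by
      show _ * mat R x = mat R x * _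
      rw [hk, Matrix.mul_smul, mul_one, Matrix.smul_mul, one_mul])
    rw [this, mul_inv_cancel_right]
    exact x.2
  have hall : ∀ x : R, x ∈ S := by
    intro x
    let pw : ZMod 2 → R → R := fun z y => if z = 0 then 1 else y
    set v := Φ.t x
    set y : R := pw (v 0) Φ.a * pw (v 1) Φ.b * pw (v 2) Φ.c * pw (v 3) Φ.d with hy
    have hpw : ∀ z y, y ∈ S → pw z y ∈ S := by
      intro z y hy
      by_cases hz : z = 0
      · simp only [pw, hz, if_true]; exact S.one_mem
      · simp only [pw, hz, if_false]; exact hy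
    have hyS : y ∈ S := S.mul_mem (S.mul_mem (S.mul_mem (hpw _ _ ha) (hpw _ _ hb)) (hpw _ _ hc)) (hpw _ _ hd)
    have h01 : ∀ z : ZMod 2, z = 0 ∨ z = 1 := by decide
    have hp : ∀ z y, Φ.t (pw z y) = z • Φ.t y := by
      intro z y
      rcases h01 z with rfl | rfl <;> simp [pw, t_one]
    have hty : Φ.t y = v := by
      rw [hy, t_mul, t_mul, t_mul, hp, hp, hp, hp, t_a, t_b, t_c, t_d]
      funext k
      fin_cases k <;> simp
    have h0 : Φ.t (x * y⁻¹) = 0 := by
      have h1 : Φ.t (x * y⁻¹) + Φ.t y = Φ.t x := by rw [← t_mul, inv_mul_cancel_right]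
      rw [hty] at h1
      simpa [v] using h1
    have := S.mul_mem (hscal _ h0) hyS
    rwa [inv_mul_cancel_right] at this
  have hmap : R.map (MulAut.conj g).toMonoidHom = R := by
    refine Subgroup.eq_of_le_of_card_ge ?_ ?_
    · rintro _ ⟨x, hx, rfl⟩
      exact (hmem ⟨x, hx⟩).1 (hall ⟨x, hx⟩)
    · exact (Nat.card_congr (R.equivMapOfInjective _ (MulAut.conj g).injective).toEquiv).le
  show g ∈ Subgroup.normalizer (R : Set (GL (Fin 4) F))
  rw [Subgroup.mem_normalizer_iff]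
  intro x
  constructor
  · intro hx
    exact (hmem ⟨x, hx⟩).1 (hall ⟨x, hx⟩)
  · intro hx
    rw [← hmap] at hx
    obtain ⟨y, hy, hyx⟩ := hx
    have : y = x := (MulAut.conj g).injective hyx
    exact this ▸ hy

/-- Conjugation by an element of the normaliser. -/
def conjR (_Φ : Frame R) {g : GL (Fin 4) F} (hg : g ∈ Cfsg.Geo.subgroupNormalizer R) : R →* R where
  toFun x := ⟨g * x * g⁻¹, ((Subgroup.mem_normalizer_iff.1 hg) x).1 x.2⟩
  map_one' := Subtype.ext (by simp)
  map_mul' x y := Subtype.ext (by simp [mul_assoc])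

variable {g : GL (Fin 4) F} (hg : g ∈ Cfsg.Geo.subgroupNormalizer R)

lemma mat_conjR (x : R) : mat R (Φ.conjR hg x) =
    (g : Matrix (Fin 4) (Fin 4) F) * mat R x * ((g⁻¹ : GL (Fin 4) F) : Matrix (Fin 4) (Fin 4) F) := rfl

/-- The induced map on the coordinates. -/
noncomputable def pi (v : V4) : V4 := Φ.t (Φ.conjR hg (Φ.rep v))

lemma t_conjR (x : R) : Φ.t (Φ.conjR hg x) = Φ.pi hg (Φ.t x) := by
  obtain ⟨k, hk4, hk⟩ := Φ.exists_smul_of_t_eq (x := x) (y := Φ.rep (Φ.t x)) (Φ.t_rep _).symm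
  obtain ⟨z, hz⟩ := Φ.scal k hk4
  have hx : x = z * Φ.rep (Φ.t x) := mat_injective R (by rw [map_mul, hz, Matrix.smul_mul, one_mul]; exact hk)
  have hzc : Φ.conjR hg z = z := mat_injective R (by
    rw [mat_conjR, hz, Matrix.mul_smul, mul_one, Matrix.smul_mul, ← Units.val_mul, mul_inv_cancel, Units.val_one])
  conv_lhs => rw [hx]
  rw [map_mul, t_mul, hzc, (Φ.t_eq_zero_iff z).2 ⟨k, hk4, hz⟩, zero_add]
  rfl

lemma pi_add (v w : V4) : Φ.pi hg (v + w) = Φ.pi hg v + Φ.pi hg w := by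
  conv_lhs => rw [← Φ.t_rep v, ← Φ.t_rep w, ← t_mul, ← t_conjR, map_mul, t_mul]
  rfl

lemma pi_zero : Φ.pi hg 0 = 0 := by
  have h := Φ.pi_add hg 0 0
  rw [add_zero] at h
  exact left_eq_add.1 h

lemma conj_mv (v : V4) : ∃ k : F, k * k = 1 ∧
    (g : Matrix (Fin 4) (Fin 4) F) * Φ.mv v * ((g⁻¹ : GL (Fin 4) F) : Matrix (Fin 4) (Fin 4) F) =
      k • Φ.mv (Φ.pi hg v) := by
  obtain ⟨k, -, hk⟩ := Φ.mat_eq_smul_mv (Φ.conjR hg (Φ.rep v))
  refine ⟨k, ?_, hk⟩
  have h : mat R (Φ.conjR hg (Φ.rep v)) * mat R (Φ.conjR hg (Φ.rep v)) = 1 := by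
    rw [← map_mul, ← map_mul, show Φ.rep v * Φ.rep v = 1 from mat_injective R (by
      rw [map_mul, map_one]; exact Φ.mv_sq v), map_one, map_one]
  rw [hk, Matrix.smul_mul, Matrix.mul_smul, smul_smul, mv_sq] at h
  simpa using congrFun (congrFun h 0) 0

lemma conj_mv_iter (v : V4) : ∀ j : ℕ, ∃ k : F, k * k = 1 ∧
    (g : Matrix (Fin 4) (Fin 4) F) ^ j * Φ.mv v * ((g⁻¹ : GL (Fin 4) F) : Matrix (Fin 4) (Fin 4) F) ^ j =
      k • Φ.mv ((Φ.pi hg)^[j] v) := by
  intro j
  induction j with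
  | zero => exact ⟨1, one_mul 1, by simp⟩
  | succ j ih =>
    obtain ⟨k, hk, h⟩ := ih
    obtain ⟨l, hl, h'⟩ := Φ.conj_mv hg ((Φ.pi hg)^[j] v)
    refine ⟨k * l, by linear_combination l * l * hk + hl, ?_⟩
    rw [Function.iterate_succ_apply', pow_succ', pow_succ]
    calc _ = (g : Matrix (Fin 4) (Fin 4) F) * ((g : Matrix (Fin 4) (Fin 4) F) ^ j * Φ.mv v *
          ((g⁻¹ : GL (Fin 4) F) : Matrix (Fin 4) (Fin 4) F) ^ j) * ((g⁻¹ : GL (Fin 4) F) : Matrix (Fin 4) (Fin 4) F) := by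
          simp only [mul_assoc]
      _ = _ := by rw [h, Matrix.mul_smul, Matrix.smul_mul, h', smul_smul]

lemma smul_mv_inj {v w : V4} {k l : F} (hl : l ≠ 0) (h : k • Φ.mv v = l • Φ.mv w) : v = w ∧ k = l := by
  have h1 := congrArg (fun M => (M * Φ.mv w).trace) h
  simp only [Matrix.smul_mul, Matrix.trace_smul, trace_mv_mul, smul_eq_mul, if_true] at h1
  by_cases hvw : v = w
  · rw [if_pos hvw] at h1
    exact ⟨hvw, mul_right_cancel₀ Φ.four_ne h1⟩
  · rw [if_neg hvw, mul_zero] at h1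
    exact absurd h1.symm (mul_ne_zero hl Φ.four_ne)

variable {r : ℕ} [Fact r.Prime] {z : F}
  (hz : ((g ^ r : GL (Fin 4) F) : Matrix (Fin 4) (Fin 4) F) = z • 1)

include hz in
lemma conj_pow_period (M : Matrix (Fin 4) (Fin 4) F) :
    (g : Matrix (Fin 4) (Fin 4) F) ^ r * M * ((g⁻¹ : GL (Fin 4) F) : Matrix (Fin 4) (Fin 4) F) ^ r = M := by
  rw [← Units.val_pow_eq_pow_val, ← Units.val_pow_eq_pow_val, inv_pow]
  have h1 : ((g ^ r : GL (Fin 4) F) : Matrix (Fin 4) (Fin 4) F) * ((g ^ r)⁻¹ : GL (Fin 4) F) = 1 := by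
    rw [← Units.val_mul, mul_inv_cancel, Units.val_one]
  have h2 : ((g ^ r : GL (Fin 4) F) : Matrix (Fin 4) (Fin 4) F) * M =
      M * ((g ^ r : GL (Fin 4) F) : Matrix (Fin 4) (Fin 4) F) := by
    rw [hz, Matrix.smul_mul, one_mul, Matrix.mul_smul, mul_one]
  rw [h2, mul_assoc, h1, mul_one]

include hz in
lemma pi_iterate_period (v : V4) : (Φ.pi hg)^[r] v = v := by
  obtain ⟨k, hk, h⟩ := Φ.conj_mv_iter hg v r
  rw [conj_pow_period hz] at h
  have hk0 : k ≠ 0 := fun h0 => by simp [h0] at hk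
  exact (Φ.smul_mv_inj (k := 1) hk0 (by rw [one_smul]; exact h)).1.symm

/-- The permutation of the coordinates. -/
noncomputable def piPerm : Equiv.Perm V4 :=
  { toFun := Φ.pi hg
    invFun := (Φ.pi hg)^[r - 1]
    left_inv := fun v => by
      rw [← Function.iterate_succ_apply, show (r - 1).succ = r by have := (Fact.out : r.Prime).one_le; omega]
      exact Φ.pi_iterate_period hg hz v
    right_inv := fun v => by
      rw [← Function.iterate_succ_apply' (Φ.pi hg), show (r - 1).succ = r by have := (Fact.out : r.Prime).one_le; omega]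
      exact Φ.pi_iterate_period hg hz v }

lemma piPerm_apply (v : V4) : Φ.piPerm hg hz v = Φ.pi hg v := rfl

lemma piPerm_pow : Φ.piPerm hg hz ^ r = 1 := by
  refine Equiv.ext fun v => ?_
  rw [Equiv.Perm.coe_pow]
  exact Φ.pi_iterate_period hg hz v

/-- The fixed coordinates. -/
noncomputable def fixedV : Finset V4 := Finset.univ.filter fun v => Φ.pi hg v = v

lemma mem_fixedV (v : V4) : v ∈ Φ.fixedV hg ↔ Φ.pi hg v = v := by simp [fixedV]

include hz in
lemma card_fixed : (Φ.fixedV hg).card ∣ 16 ∧ (Φ.fixedV hg).card % r = 16 % r := by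
  let H : AddSubgroup V4 :=
    { carrier := {v | Φ.pi hg v = v}
      add_mem' := fun {v w} hv hw => by rw [Set.mem_setOf_eq, pi_add, hv, hw]
      zero_mem' := Φ.pi_zero hg
      neg_mem' := fun {v} hv => by
        rw [Set.mem_setOf_eq, show -v = v from funext fun j => CharTwo.neg_eq _]; exact hv }
  have h16 : Fintype.card V4 = 16 := by simp
  refine ⟨?_, ?_⟩
  · have h := H.card_addSubgroup_dvd_card
    rwa [Nat.card_eq_fintype_card (α := V4), h16, show Nat.card H = (Φ.fixedV hg).card by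
      rw [← Fintype.card_coe, ← Nat.card_eq_fintype_card]
      exact Nat.card_congr (Equiv.subtypeEquivRight fun v => (Φ.mem_fixedV hg v).symm)] at h
  · have h := perm_fix_mod (r := r) (Φ.piPerm hg hz) (Φ.piPerm_pow hg hz)
    rwa [h16] at h

include hz in
/-- The sign of a fixed coordinate is trivial for odd period. -/
lemma conj_fixed (hodd : Odd r) {v : V4} (hv : Φ.pi hg v = v) :
    (g : Matrix (Fin 4) (Fin 4) F) * Φ.mv v * ((g⁻¹ : GL (Fin 4) F) : Matrix (Fin 4) (Fin 4) F) = Φ.mv v := by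
  obtain ⟨k, hk, h⟩ := Φ.conj_mv hg v
  rw [hv] at h
  have hj : ∀ j : ℕ, (g : Matrix (Fin 4) (Fin 4) F) ^ j * Φ.mv v *
      ((g⁻¹ : GL (Fin 4) F) : Matrix (Fin 4) (Fin 4) F) ^ j = k ^ j • Φ.mv v := by
    intro j
    induction j with
    | zero => simp
    | succ j ih =>
      rw [pow_succ', pow_succ]
      calc _ = (g : Matrix (Fin 4) (Fin 4) F) * ((g : Matrix (Fin 4) (Fin 4) F) ^ j * Φ.mv v *
            ((g⁻¹ : GL (Fin 4) F) : Matrix (Fin 4) (Fin 4) F) ^ j) * ((g⁻¹ : GL (Fin 4) F) : Matrix (Fin 4) (Fin 4) F) := by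
            simp only [mul_assoc]
        _ = _ := by rw [ih, Matrix.mul_smul, Matrix.smul_mul, h, smul_smul, ← pow_succ]
  have h1 := hj r
  rw [conj_pow_period hz] at h1
  have hkr : k ^ r = 1 := ((Φ.smul_mv_inj (v := v) (w := v) (k := k ^ r) one_ne_zero (by rw [one_smul]; exact h1.symm))).2
  obtain ⟨m, rfl⟩ := hodd
  rw [pow_succ, pow_mul, pow_two, hk, one_pow, one_mul] at hkr
  rw [h, hkr, one_smul]

include Φ hg hz in
/-- If every coordinate is fixed, the element is scalar. -/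
theorem scalar_of_all_fixed (hodd : Odd r) (h : (Φ.fixedV hg).card = 16) :
    ∃ k : F, (g : Matrix (Fin 4) (Fin 4) F) = k • 1 := by
  have hall : ∀ v, Φ.pi hg v = v := by
    intro v
    rw [← Φ.mem_fixedV hg]
    rw [(Finset.card_eq_iff_eq_univ (Φ.fixedV hg)).1 (by rw [h]; simp)]
    exact Finset.mem_univ v
  have hcomm : ∀ X : Matrix (Fin 4) (Fin 4) F, (g : Matrix (Fin 4) (Fin 4) F) * X = X * (g : Matrix (Fin 4) (Fin 4) F) := by
    intro X
    have hX : X ∈ Submodule.span F (Set.range Φ.mv) := by rw [Φ.span_mv]; trivial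
    induction hX using Submodule.span_induction with
    | zero => simp
    | add x y _ _ hx hy => rw [mul_add, add_mul, hx, hy]
    | smul k x _ hx => rw [Matrix.mul_smul, Matrix.smul_mul, hx]
    | mem x hx =>
      obtain ⟨w, rfl⟩ := hx
      conv_rhs => rw [← Φ.conj_fixed hg hz hodd (hall w)]
      rw [mul_assoc, ← Units.val_mul, inv_mul_cancel, Units.val_one, mul_one]
  obtain ⟨k, hk⟩ := Matrix.mem_range_scalar_of_commute_single
    (M := (g : Matrix (Fin 4) (Fin 4) F)) (fun i j _ => (hcomm _).symm)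
  exact ⟨k, by rw [← hk, Matrix.smul_one_eq_diagonal]; rfl⟩

include Φ hg hz in
/-- The trace invariant. -/
theorem trace_mul_trace_inv (hodd : Odd r) :
    (g : Matrix (Fin 4) (Fin 4) F).trace * ((g⁻¹ : GL (Fin 4) F) : Matrix (Fin 4) (Fin 4) F).trace =
      ((Φ.fixedV hg).card : F) := by
  set G := (g : Matrix (Fin 4) (Fin 4) F) with hG
  set G' := ((g⁻¹ : GL (Fin 4) F) : Matrix (Fin 4) (Fin 4) F) with hG'
  have h := congrArg (fun M => (M * G').trace) (Φ.twirl G)
  simp only [Finset.sum_mul, Matrix.trace_sum, Matrix.smul_mul, one_mul, Matrix.trace_smul, smul_eq_mul] at h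
  have hterm : ∀ v, (Φ.mv v * G * Φ.mv v * G').trace = if v ∈ Φ.fixedV hg then 4 else 0 := by
    intro v
    obtain ⟨k, -, hk⟩ := Φ.conj_mv hg v
    rw [show Φ.mv v * G * Φ.mv v * G' = Φ.mv v * (G * Φ.mv v * G') by simp only [mul_assoc]]
    by_cases hv : Φ.pi hg v = v
    · rw [hG, hG', Φ.conj_fixed hg hz hodd hv, mv_sq, if_pos ((Φ.mem_fixedV hg v).2 hv), Matrix.trace_one]
      simp
    · rw [hG, hG', hk, Matrix.mul_smul, Matrix.trace_smul, trace_mv_mul, if_neg (Ne.symm hv),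
        if_neg (fun h' => hv ((Φ.mem_fixedV hg v).1 h')), smul_zero]
  rw [Finset.sum_congr rfl (fun v _ => hterm v), Finset.sum_ite_mem, Finset.univ_inter, Finset.sum_const,
    nsmul_eq_mul] at h
  exact mul_left_cancel₀ Φ.four_ne (by linear_combination -h)

include Φ hg hz in
/-- Period at least seven forces a scalar. -/
theorem scalar_of_seven_le (hr : 7 ≤ r) : ∃ k : F, (g : Matrix (Fin 4) (Fin 4) F) = k • 1 := by
  classical
  have hp : r.Prime := Fact.out
  have hodd : Odd r := hp.odd_of_ne_two (by omega)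
  obtain ⟨hd, hm⟩ := Φ.card_fixed hg hz
  refine Φ.scalar_of_all_fixed hg hz hodd ?_
  have hle := Nat.le_of_dvd (by norm_num) hd
  by_contra hne
  have hr16 : r ∣ 16 - (Φ.fixedV hg).card := Nat.dvd_of_mod_eq_zero (Nat.sub_mod_eq_zero_of_mod_eq hm.symm)
  have hrle : r ≤ 16 - (Φ.fixedV hg).card := Nat.le_of_dvd (by omega) hr16
  have h2 : (Φ.fixedV hg).card = 2 ∧ r = 7 := by
    have hr' : r ≤ 16 := by omega
    interval_cases hc : (Φ.fixedV hg).card <;> first | omega | (interval_cases r <;> norm_num at *)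
  obtain ⟨h2, rfl⟩ := h2
  obtain ⟨v₀, hv₀, hne0⟩ : ∃ v₀ ∈ Φ.fixedV hg, v₀ ≠ 0 :=
    Finset.exists_mem_ne (by omega) 0
  have hfix : ∀ v, Φ.pi hg v = v → v = 0 ∨ v = v₀ := by
    intro v hv
    by_contra hcon
    push Not at hcon
    have hsub : ({0, v₀, v} : Finset V4) ⊆ Φ.fixedV hg := by
      intro w hw
      simp only [Finset.mem_insert, Finset.mem_singleton] at hw
      rcases hw with rfl | rfl | rfl
      · exact (Φ.mem_fixedV hg _).2 (Φ.pi_zero hg)
      · exact hv₀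
      · exact (Φ.mem_fixedV hg _).2 hv
    have := Finset.card_le_card hsub
    rw [Finset.card_eq_three.2 ⟨0, v₀, v, hne0.symm, hcon.1.symm, hcon.2.symm, rfl⟩] at this
    omega
  -- the commutation form with `v₀`
  let B : V4 → ZMod 2 := fun v => Φ.sgnE (Φ.rep v) (Φ.rep v₀)
  have hB : ∀ x : R, B (Φ.t x) = Φ.sgnE x (Φ.rep v₀) := by
    intro x
    obtain ⟨k, hk4, hk⟩ := Φ.exists_smul_of_t_eq (x := Φ.rep (Φ.t x)) (y := x) (Φ.t_rep _)
    obtain ⟨y, hy⟩ := Φ.scal k hk4
    have hxy : Φ.rep (Φ.t x) = y * x := mat_injective R (by rw [map_mul, hy, Matrix.smul_mul, one_mul]; exact hk)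
    show Φ.sgnE (Φ.rep (Φ.t x)) _ = _
    rw [hxy, sgnE_mul, (Φ.sgnE_zero_iff _ _).2 (by rw [hy, Matrix.smul_mul, one_mul, Matrix.mul_smul, mul_one]),
      zero_add]
  let Bh : V4 →+ ZMod 2 := AddMonoidHom.mk' B fun v w => by
    have h := hB (Φ.rep v * Φ.rep w)
    rw [t_mul, t_rep, t_rep, sgnE_mul] at h
    exact h
  have hBv : B v₀ = 0 := Φ.sgnE_self _
  obtain ⟨j, hj⟩ : ∃ j, v₀ j ≠ 0 := Function.ne_iff.1 hne0
  have hsurj : Function.Surjective Bh := by
    have h1 : B (Φ.t (Φ.test j)) = 1 := by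
      rw [hB, sgnE_one_iff]
      have h01 : ∀ z : ZMod 2, z = 0 ∨ z = 1 := by decide
      have h' := (Φ.sgnE_one_iff _ _).1 (show Φ.sgnE (Φ.rep v₀) (Φ.test j) = 1 by
        rw [← t_apply, t_rep]; exact (h01 _).resolve_left hj)
      rw [h', neg_neg]
    intro z
    have h01 : ∀ z : ZMod 2, z = 0 ∨ z = 1 := by decide
    rcases h01 z with rfl | rfl
    · exact ⟨0, map_zero Bh⟩
    · exact ⟨_, h1⟩
  have hcard8 : Nat.card Bh.ker = 8 := by
    have h := Bh.ker.card_mul_index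
    rw [AddSubgroup.index_ker, AddMonoidHom.range_eq_top.2 hsurj, AddSubgroup.card_top,
      Nat.card_eq_fintype_card (α := ZMod 2), ZMod.card, Nat.card_eq_fintype_card (α := V4),
      show Fintype.card V4 = 16 by simp] at h
    omega
  have hinv : ∀ v, B (Φ.pi hg v) = 0 ↔ B v = 0 := by
    have hrep : Φ.rep v₀ ∈ Set.univ := trivial
    intro v
    have hv0c : mat R (Φ.conjR hg (Φ.rep v₀)) = mat R (Φ.rep v₀) :=
      Φ.conj_fixed hg hz hodd ((Φ.mem_fixedV hg _).1 hv₀)
    have hcv : Φ.conjR hg (Φ.rep v₀) = Φ.rep v₀ := mat_injective R hv0c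
    have h1 : B (Φ.pi hg v) = Φ.sgnE (Φ.conjR hg (Φ.rep v)) (Φ.rep v₀) := by
      rw [← hB, t_conjR, t_rep]
    rw [h1, sgnE_zero_iff]
    show _ ↔ Φ.sgnE (Φ.rep v) (Φ.rep v₀) = 0
    rw [sgnE_zero_iff]
    rw [← map_mul, ← map_mul, ← map_mul, ← map_mul, (mat_injective R).eq_iff, (mat_injective R).eq_iff]
    nth_rw 1 [← hcv]
    nth_rw 2 [← hcv]
    rw [← map_mul, ← map_mul]
    refine ⟨fun h => ?_, fun h => congrArg _ h⟩
    apply Subtype.ext
    have h' := congrArg Subtype.val h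
    simp only [conjR, MonoidHom.coe_mk, OneHom.coe_mk] at h'
    exact mul_left_cancel (mul_right_cancel h')
  let σ : Equiv.Perm {v : V4 // B v = 0} := (Φ.piPerm hg hz).subtypePerm (fun v => hinv v)
  have hσ : σ ^ 7 = 1 := by
    refine Equiv.ext fun v => Subtype.ext ?_
    simp only [σ, Equiv.Perm.subtypePerm_pow, Equiv.Perm.subtypePerm_apply]
    show (Φ.piPerm hg hz ^ 7) v.1 = v.1
    rw [Φ.piPerm_pow hg hz]
    rfl
  have h := perm_fix_mod (r := 7) σ hσ
  have hc8 : Fintype.card {v : V4 // B v = 0} = 8 := by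
    rw [← Nat.card_eq_fintype_card, ← hcard8]
    exact Nat.card_congr (Equiv.subtypeEquivRight fun v => Iff.rfl)
  have hc2 : (Finset.univ.filter fun x => σ x = x) = {⟨0, map_zero Bh⟩, ⟨v₀, hBv⟩} := by
    ext ⟨x, hx⟩
    simp only [Finset.mem_filter, Finset.mem_univ, true_and, Finset.mem_insert, Finset.mem_singleton, Subtype.ext_iff]
    constructor
    · intro hfx
      exact hfix x hfx
    · rintro (rfl | rfl)
      · exact Φ.pi_zero hg
      · exact (Φ.mem_fixedV hg _).1 hv₀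
  rw [hc8, hc2, Finset.card_pair (fun h => hne0 (congrArg Subtype.val h).symm)] at h
  norm_num at h

include Φ hg hz in
/-- An element of period five has no quadratic minimal polynomial unless scalar. -/
theorem no_quadratic {α β : F} (hr : r = 5) (hns : ∀ k : F, (g : Matrix (Fin 4) (Fin 4) F) ≠ k • 1)
    (hq : ((g : Matrix (Fin 4) (Fin 4) F) - α • 1) * ((g : Matrix (Fin 4) (Fin 4) F) - β • 1) = 0) : False := by
  classical
  subst hr
  obtain ⟨v, hv⟩ : ∃ v, Φ.pi hg v ≠ v := by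
    by_contra hno
    push Not at hno
    obtain ⟨k, hk⟩ := Φ.scalar_of_all_fixed hg hz (by decide) (by
      rw [Finset.eq_univ_iff_forall.2 fun v => (Φ.mem_fixedV hg v).2 (hno v)]; simp)
    exact hns k hk
  set G := (g : Matrix (Fin 4) (Fin 4) F) with hG
  set G' := ((g⁻¹ : GL (Fin 4) F) : Matrix (Fin 4) (Fin 4) F) with hG'
  let S : Submodule F (Matrix (Fin 4) (Fin 4) F) := Submodule.span F {1, G}
  have hG2 : G * G = (α + β) • G - (α * β) • 1 := by
    rw [sub_mul, mul_sub, mul_sub, Matrix.smul_mul, one_mul, Matrix.mul_smul, mul_one, Matrix.smul_mul, one_mul,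
      smul_smul] at hq
    rw [← sub_eq_zero, ← hq]
    module
  have hpow : ∀ n : ℕ, ∃ x y : F, G ^ n = x • 1 + y • G := by
    intro n
    induction n with
    | zero => exact ⟨1, 0, by simp⟩
    | succ n ih =>
      obtain ⟨x, y, h⟩ := ih
      refine ⟨-(y * (α * β)), x + y * (α + β), ?_⟩
      rw [pow_succ, h, add_mul, Matrix.smul_mul, one_mul, Matrix.smul_mul, hG2]
      module
  have hz0 : z ≠ 0 := by
    intro h0
    rw [h0, zero_smul] at hz
    exact (g ^ 5).ne_zero hz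
  have hinvpow : ∀ j ≤ 5, G' ^ j = z⁻¹ • G ^ (5 - j) := by
    intro j hj
    have h5 : G ^ 5 = z • 1 := by rw [hG, ← Units.val_pow_eq_pow_val]; exact hz
    have hinv : G ^ j * G' ^ j = 1 := by
      rw [hG, hG', ← Units.val_pow_eq_pow_val, ← Units.val_pow_eq_pow_val, ← Units.val_mul, inv_pow, mul_inv_cancel,
        Units.val_one]
    calc G' ^ j = (z⁻¹ • G ^ 5) * G' ^ j := by rw [h5, smul_smul, inv_mul_cancel₀ hz0, one_smul, one_mul]
      _ = z⁻¹ • (G ^ (5 - j) * (G ^ j * G' ^ j)) := by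
          rw [Matrix.smul_mul, ← mul_assoc, ← pow_add, Nat.sub_add_cancel hj]
      _ = _ := by rw [hinv, mul_one]
  choose k hk hX using fun j : Fin 5 => Φ.conj_mv_iter hg v j
  set M := Φ.mv v
  let W : Submodule F (Matrix (Fin 4) (Fin 4) F) := Submodule.span F (↑({M, G * M, M * G, G * M * G} : Finset _))
  have hin : ∀ j : Fin 5, Φ.mv ((Φ.pi hg)^[(j : ℕ)] v) ∈ W := by
    intro j
    have hk0 : k j ≠ 0 := fun h0 => by simpa [h0] using hk j
    have h : k j • Φ.mv ((Φ.pi hg)^[(j : ℕ)] v) ∈ W := by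
      rw [← hX j, hinvpow j (by omega)]
      obtain ⟨x, y, hxy⟩ := hpow j
      obtain ⟨x', y', hxy'⟩ := hpow (5 - j)
      rw [hxy, hxy', Matrix.mul_smul]
      refine W.smul_mem _ ?_
      simp only [add_mul, mul_add, Matrix.smul_mul, one_mul, Matrix.mul_smul, mul_one, smul_smul, mul_assoc]
      refine W.add_mem (W.add_mem (W.smul_mem _ (Submodule.subset_span ?_)) (W.smul_mem _ (Submodule.subset_span ?_)))
        (W.add_mem (W.smul_mem _ (Submodule.subset_span ?_)) (W.smul_mem _ (Submodule.subset_span ?_))) <;>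
        simp [mul_assoc]
    have h2 := W.smul_mem (k j)⁻¹ h
    rwa [smul_smul, inv_mul_cancel₀ hk0, one_smul] at h2
  have hinj : Function.Injective fun j : Fin 5 => (Φ.pi hg)^[(j : ℕ)] v := by
    intro a b hab
    by_contra hne
    have key : ∀ c d : ℕ, c < d → d < 5 → (Φ.pi hg)^[c] v ≠ (Φ.pi hg)^[d] v := by
      intro c d hcd hd h
      apply hv
      have hper : Function.IsPeriodicPt (Φ.pi hg) 5 v := Φ.pi_iterate_period hg hz v
      have h1 : Function.IsPeriodicPt (Φ.pi hg) (d - c) v := by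
        have h2 := congrArg (Φ.pi hg)^[5 - c] h
        rw [← Function.iterate_add_apply, ← Function.iterate_add_apply, show 5 - c + c = 5 by omega,
          show 5 - c + d = (d - c) + 5 by omega, Function.iterate_add_apply, hper] at h2
        exact h2.symm
      have h3 : Function.IsPeriodicPt (Φ.pi hg) (Nat.gcd 5 (d - c)) v := hper.gcd h1
      rw [show Nat.gcd 5 (d - c) = 1 from (Nat.Prime.coprime_iff_not_dvd (by norm_num)).2
        (Nat.not_dvd_of_pos_of_lt (by omega) (by omega))] at h3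
      exact h3
    rcases lt_or_gt_of_ne (Fin.val_ne_of_ne hne) with h | h
    · exact key _ _ h b.isLt hab
    · exact key _ _ h a.isLt hab.symm
  have hli := Φ.linearIndependent_mv.comp _ hinj
  have h5 : LinearIndependent F (fun j : Fin 5 => (⟨Φ.mv ((Φ.pi hg)^[(j : ℕ)] v), hin j⟩ : W)) :=
    LinearIndependent.of_comp W.subtype hli
  have h := h5.fintype_card_le_finrank
  have h4 : Module.finrank F W ≤ 4 := (finrank_span_finset_le_card _).trans Finset.card_le_four
  rw [Fintype.card_fin] at h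
  omega

end Frame

end Cfsg.Agent.Lib.SympFour
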