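import Cfsg.Agent.Lib.SympFour.Avoid

/-!
In characteristic three no transvection normalises a symplectic-type group of order 64 in `GL_4`.
-/

set_option autoImplicit false

namespace Cfsg.Agent.Lib.SympFour.Frame

open Matrix

variable {F : Type*} [Field F] {R : Subgroup (GL (Fin 4) F)} (Φ : Frame R) {g : GL (Fin 4) F}
  (hg : g ∈ Cfsg.Geo.subgroupNormalizer R)

include Φ hg in
theorem no_transvection_three (h3 : (3 : F) = 0) {N : Matrix (Fin 4) (Fin 4) F} (hN : N ≠ 0) (hNN : N * N = 0)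
    (hrank : ∀ X : Matrix (Fin 4) (Fin 4) F, ∃ c : F, N * X * N = c • N)
    (hgN : (g : Matrix (Fin 4) (Fin 4) F) = 1 + N) : False := by
  classical
  haveI : Fact (Nat.Prime 3) := ⟨by norm_num⟩
  set G := (g : Matrix (Fin 4) (Fin 4) F) with hG
  set G' := ((g⁻¹ : GL (Fin 4) F) : Matrix (Fin 4) (Fin 4) F) with hG'
  have hG'N : G' = 1 - N := by
    have h1 : G * (1 - N) = 1 := by
      rw [hgN, add_mul, one_mul, mul_sub, mul_one, hNN, sub_zero, sub_add_cancel]
    calc G' = G' * (G * (1 - N)) := by rw [h1, mul_one]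
      _ = 1 - N := by rw [← mul_assoc, hG, hG', ← Units.val_mul, inv_mul_cancel, Units.val_one, one_mul]
  have hz : ((g ^ 3 : GL (Fin 4) F) : Matrix (Fin 4) (Fin 4) F) = (1 : F) • 1 := by
    rw [one_smul, Units.val_pow_eq_pow_val, ← hG, hgN, pow_succ, pow_succ, pow_one]
    simp only [add_mul, mul_add, one_mul, mul_one, hNN, add_zero]
    have : (3 : F) • N = 0 := by rw [h3, zero_smul]
    rw [show (3 : F) = 1 + 1 + 1 by norm_num, add_smul, add_smul, one_smul] at this
    rw [add_assoc, add_assoc, show N + (N + N) = N + N + N from (add_assoc _ _ _).symm, this, add_zero]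
  have hodd : Odd 3 := by decide
  -- orbit sums are multiples of `N`
  have hsum : ∀ v, ∃ (c k₁ k₂ : F), Φ.mv v + k₁ • Φ.mv (Φ.pi hg v) + k₂ • Φ.mv (Φ.pi hg (Φ.pi hg v)) = c • N := by
    intro v
    obtain ⟨k₁, -, h1⟩ := Φ.conj_mv_iter hg v 1
    obtain ⟨k₂, -, h2⟩ := Φ.conj_mv_iter hg v 2
    obtain ⟨c, hc⟩ := hrank (Φ.mv v)
    refine ⟨c, k₁, k₂, ?_⟩
    simp only [Function.iterate_succ, Function.iterate_zero, Function.comp, id, pow_one] at h1 h2
    rw [← h1, ← h2, ← hG, ← hG', hgN, hG'N, pow_two, pow_two]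
    simp only [add_mul, mul_add, sub_mul, mul_sub, one_mul, mul_one, hNN, add_zero, sub_zero, zero_sub, ← mul_assoc,
      zero_mul, mul_zero, neg_zero]
    have hm : (3 : F) • Φ.mv v = 0 ∧ (3 : F) • (N * Φ.mv v) = 0 ∧ (3 : F) • (Φ.mv v * N) = 0 ∧
        (3 : F) • (N * Φ.mv v * N) = 0 := by simp [h3]
    obtain ⟨e0, e1, e2, e3⟩ := hm
    rw [← hc]
    linear_combination (norm := module) e0 + e1 - e2 - (2 : F) • e3
  have hpi : ∀ v, Φ.pi hg v ≠ v → Φ.pi hg (Φ.pi hg v) ≠ v := by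
    intro v hv h
    apply hv
    have h' := Φ.pi_iterate_period hg hz v
    simp only [Function.iterate_succ, Function.iterate_zero, Function.comp, id] at h'
    rw [h] at h'
    exact h'
  have hper : ∀ v, Φ.pi hg (Φ.pi hg (Φ.pi hg v)) = v := fun v => by
    simpa [Function.iterate_succ, Function.comp] using Φ.pi_iterate_period hg hz v
  obtain ⟨v, hv⟩ : ∃ v, Φ.pi hg v ≠ v := by
    by_contra hno
    push Not at hno
    obtain ⟨k, hk⟩ := Φ.scalar_of_all_fixed hg hz hodd (by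
      rw [Finset.eq_univ_iff_forall.2 fun v => (Φ.mem_fixedV hg v).2 (hno v)]; simp)
    rw [← hG, hgN] at hk
    have hNk : N = (k - 1) • 1 := by rw [sub_smul, one_smul, ← hk, add_sub_cancel_left]
    rw [hNk, Matrix.smul_mul, Matrix.mul_smul, one_mul, smul_smul] at hNN
    have : (k - 1) * (k - 1) = 0 := by simpa using congrFun (congrFun hNN 0) 0
    apply hN
    rw [hNk, mul_self_eq_zero.1 this, zero_smul]
  obtain ⟨hd, hm⟩ := Φ.card_fixed hg hz
  have hle : (Φ.fixedV hg).card ≤ 4 := by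
    have h16 := Nat.le_of_dvd (by norm_num) hd
    have hne : (Φ.fixedV hg).card ≠ 16 := fun h => hv ((Φ.mem_fixedV hg v).1 (by
      rw [(Finset.card_eq_iff_eq_univ (Φ.fixedV hg)).1 (by rw [h]; simp)]; exact Finset.mem_univ v))
    interval_cases h : (Φ.fixedV hg).card <;> norm_num at *
  obtain ⟨w, -, hw⟩ : ∃ w ∈ Finset.univ, w ∉ Φ.fixedV hg ∪ {v, Φ.pi hg v, Φ.pi hg (Φ.pi hg v)} := by
    refine Finset.exists_mem_notMem_of_card_lt_card ?_
    have h3' : ({v, Φ.pi hg v, Φ.pi hg (Φ.pi hg v)} : Finset V4).card ≤ 3 := Finset.card_le_three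
    have := Finset.card_union_le (Φ.fixedV hg) {v, Φ.pi hg v, Φ.pi hg (Φ.pi hg v)}
    rw [Finset.card_univ, show Fintype.card V4 = 16 by simp]
    omega
  simp only [Finset.mem_union, Finset.mem_insert, Finset.mem_singleton, Φ.mem_fixedV hg, not_or] at hw
  obtain ⟨hwf, hwv, hwv1, hwv2⟩ := hw
  obtain ⟨c, a₁, a₂, hc⟩ := hsum v
  obtain ⟨c', b₁, b₂, hc'⟩ := hsum w
  have e1 := congrArg (fun M => (M * Φ.mv v).trace) hc
  have e2 := congrArg (fun M => (M * Φ.mv v).trace) hc'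
  have e3 := congrArg (fun M => (M * Φ.mv w).trace) hc'
  have n1 : Φ.pi hg w ≠ v := fun h => hwv2 (by rw [← h, hper])
  have n2 : Φ.pi hg (Φ.pi hg w) ≠ v := fun h => hwv1 (by rw [← h, hper])
  simp only [add_mul, Matrix.smul_mul, Matrix.trace_add, Matrix.trace_smul, trace_mv_mul, smul_eq_mul,
    if_true, if_neg hv, if_neg (hpi v hv), if_neg hwf, if_neg (hpi w hwf), if_neg hwv, if_neg n1, if_neg n2,
    mul_zero, add_zero] at e1 e2 e3
  have hc'0 : c' = 0 := by
    by_contra hne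
    have ht : (N * Φ.mv v).trace = 0 := (mul_eq_zero.1 e2.symm).resolve_left hne
    rw [ht, mul_zero] at e1
    exact Φ.four_ne e1
  rw [hc'0, zero_mul] at e3
  exact Φ.four_ne e3

end Cfsg.Agent.Lib.SympFour.Frame
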