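import Mathlib
import Cfsg.Agent.Lib.Semisimple.Basic

/-!
Characteristic polynomials of `4 × 4` matrices whose square, cube or fifth power is scalar.
-/

set_option autoImplicit false

namespace Cfsg.Agent.Lib.SympFour

open Matrix Polynomial

variable {F : Type*} [Field F]

/-- The characteristic polynomial of a matrix annihilated by a product of distinct monic irreducibles. -/
theorem charpoly_prod {ι : Type*} [Fintype ι] [DecidableEq ι] (r : ι → F[X]) (hr : ∀ j, Irreducible (r j))
    (hrm : ∀ j, (r j).Monic) (hinj : Function.Injective r) (A : Matrix (Fin 4) (Fin 4) F)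
    (h0 : aeval A (∏ j, r j) = 0) :
    ∃ k : ι → ℕ, A.charpoly = ∏ j, r j ^ k j ∧ (∑ j, k j * (r j).natDegree = 4) ∧
      A.trace = -∑ j, (k j : F) * (r j).nextCoeff ∧ ∀ j, k j = 0 → IsUnit (aeval A (r j)) := by
  classical
  have hcm := A.charpoly_monic
  have hmem : ∀ s ∈ UniqueFactorizationMonoid.normalizedFactors A.charpoly, ∃ j, s = r j := by
    intro s hs
    have hsi := UniqueFactorizationMonoid.irreducible_of_normalized_factor s hs
    have hsm : s.Monic := by
      rw [← UniqueFactorizationMonoid.normalize_normalized_factor s hs]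
      exact monic_normalize hsi.ne_zero
    by_contra hno
    push Not at hno
    have hcop : IsCoprime s (∏ j, r j) := IsCoprime.prod_right fun j _ =>
      hsi.coprime_iff_not_dvd.2 fun hd =>
        hno j (eq_of_monic_of_associated hsm (hrm j) (hsi.associated_of_dvd (hr j) hd))
    obtain ⟨a, b, hab⟩ := hcop
    refine Semisimple.not_isUnit_aeval A s hsi (UniqueFactorizationMonoid.dvd_of_mem_normalizedFactors hs) ?_
    have h1 : aeval A a * aeval A s = 1 := by
      have := congrArg (aeval A) hab
      simpa [h0, map_prod] using this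
    exact ⟨⟨aeval A s, aeval A a, mul_eq_one_comm.1 h1, h1⟩, rfl⟩
  have hind : ∀ M : Multiset F[X], (∀ s ∈ M, ∃ j, s = r j) → ∃ k : ι → ℕ, M.prod = ∏ j, r j ^ k j := by
    intro M hM
    induction M using Multiset.induction_on with
    | empty => exact ⟨fun _ => 0, by simp⟩
    | cons s M ih =>
      obtain ⟨k, hk⟩ := ih fun t ht => hM t (Multiset.mem_cons_of_mem ht)
      obtain ⟨j, rfl⟩ := hM s (Multiset.mem_cons_self s M)
      refine ⟨fun i => k i + if i = j then 1 else 0, ?_⟩
      simp only [Multiset.prod_cons, hk, pow_add, Finset.prod_mul_distrib, pow_ite, pow_one, pow_zero,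
        Finset.prod_ite_eq', Finset.mem_univ, if_true]
      ring
  obtain ⟨k, hk⟩ := hind _ hmem
  have hprod : A.charpoly = ∏ j, r j ^ k j := by
    have h2 := UniqueFactorizationMonoid.prod_normalizedFactors hcm.ne_zero
    rw [hk] at h2
    exact (eq_of_monic_of_associated (monic_prod_of_monic _ _ fun j _ => (hrm j).pow _) hcm h2).symm
  refine ⟨k, hprod, ?_, ?_, ?_⟩
  · have h := congrArg natDegree hprod
    rw [Matrix.charpoly_natDegree_eq_dim, natDegree_prod_of_monic _ _ (fun j _ => (hrm j).pow _), Fintype.card_fin] at h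
    simp only [natDegree_pow] at h
    exact h.symm
  · rw [Matrix.trace_eq_neg_charpoly_nextCoeff, hprod, Polynomial.Monic.nextCoeff_prod _ _ fun j _ => (hrm j).pow _]
    simp only [(hrm _).nextCoeff_pow, nsmul_eq_mul]
  · intro j hj
    have hcop : IsCoprime (r j) A.charpoly := by
      rw [hprod]
      refine IsCoprime.prod_right fun i _ => ?_
      by_cases hij : i = j
      · subst hij; rw [hj, pow_zero]; exact isCoprime_one_right
      · refine IsCoprime.pow_right ((hr j).coprime_iff_not_dvd.2 fun hd => hij (hinj ?_))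
        exact (eq_of_monic_of_associated (hrm j) (hrm i) ((hr j).associated_of_dvd (hr i) hd)).symm
    obtain ⟨a, b, hab⟩ := hcop
    have h1 : aeval A a * aeval A (r j) = 1 := by
      have := congrArg (aeval A) hab
      simpa [Matrix.aeval_self_charpoly] using this
    exact ⟨⟨aeval A (r j), aeval A a, mul_eq_one_comm.1 h1, h1⟩, rfl⟩

lemma eq_zero_of_unit_mul {M N : Matrix (Fin 4) (Fin 4) F} (hM : IsUnit M) (h : M * N = 0) : N = 0 := by
  obtain ⟨u, rfl⟩ := hM
  rw [← one_mul N, ← Units.inv_mul u, mul_assoc, h, mul_zero]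

/-- `A² = s²` with `2 s ≠ 0`. -/
theorem charpoly_sq {A : Matrix (Fin 4) (Fin 4) F} {s : F} (hs : s + s ≠ 0) (hA : A * A = (s * s) • 1)
    (hns : ∀ c : F, A ≠ c • 1) :
    ∃ a b : ℕ, 1 ≤ a ∧ 1 ≤ b ∧ a + b = 4 ∧ A.charpoly = (X - C s) ^ a * (X - C (-s)) ^ b ∧
      A.trace = ((a : F) - b) * s := by
  let r : Fin 2 → F[X] := ![X - C s, X - C (-s)]
  have hne : s ≠ -s := fun h => hs (by linear_combination h)
  have hinj : Function.Injective r := by
    have : X - C s ≠ X + C s := fun h => hne (by
      have h0 := congrArg (fun f : F[X] => f.coeff 0) h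
      simp at h0
      exact h0.symm)
    intro i j hij
    fin_cases i <;> fin_cases j <;> simp [r] at hij ⊢ <;> first | exact this hij | exact this hij.symm | skip
  have h0 : aeval A (∏ j, r j) = 0 := by
    simp [r, Fin.prod_univ_two, Algebra.algebraMap_eq_smul_one, sub_mul, mul_add, hA, smul_smul]
  obtain ⟨k, hk, hdeg, htr, hu⟩ := charpoly_prod r (fun j => by fin_cases j <;> exact irreducible_X_sub_C _)
    (fun j => by fin_cases j <;> exact monic_X_sub_C _) hinj A h0
  simp only [Fin.prod_univ_two, Fin.sum_univ_two, r, Matrix.cons_val_zero, Matrix.cons_val_one, natDegree_X_sub_C,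
    nextCoeff_X_sub_C, mul_one, map_mul] at hk hdeg htr h0
  have hscalar : ∀ t : F, aeval A (X - C t) = 0 → False := fun t ht => hns t (by
    simpa [Algebra.algebraMap_eq_smul_one, sub_eq_zero] using ht)
  refine ⟨k 0, k 1, ?_, ?_, hdeg, hk, by rw [htr]; ring⟩
  · by_contra h
    exact hscalar (-s) (eq_zero_of_unit_mul (hu 0 (by omega)) h0)
  · by_contra h
    refine hscalar s (eq_zero_of_unit_mul (hu 1 (by omega)) ?_)
    show aeval A (X - C (-s)) * aeval A (X - C s) = 0
    rw [← map_mul, mul_comm, map_mul]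
    exact h0

/-- `A³ = 1` with no primitive cube root of unity in the field. -/
theorem charpoly_cube_irred {A : Matrix (Fin 4) (Fin 4) F} (h3 : ∀ w : F, w * w + w + 1 ≠ 0) (hA : A ^ 3 = 1)
    (hne : A ≠ 1) :
    ∃ a b : ℕ, a + 2 * b = 4 ∧ 1 ≤ b ∧ A.charpoly = (X - C 1) ^ a * (X ^ 2 + X + C 1) ^ b ∧
      A.trace = (a : F) - b := by
  set q : F[X] := X ^ 2 + X + C 1 with hq
  have hqm : q.Monic := by rw [hq]; monicity!
  have hqd : q.natDegree = 2 := by rw [hq]; compute_degree!
  have hqn : q.nextCoeff = 1 := by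
    rw [nextCoeff, hqd, if_neg (by norm_num), hq]
    simp [coeff_one]
  have hqi : Irreducible q := by
    refine irreducible_of_degree_le_three_of_not_isRoot (by rw [hqd]; decide) fun w hw => h3 w ?_
    simpa [hq, pow_two] using hw
  let r : Fin 2 → F[X] := ![X - C 1, q]
  have hinj : Function.Injective r := by
    have : X - C 1 ≠ q := fun h => by
      have := congrArg natDegree h
      rw [natDegree_X_sub_C, hqd] at this
      omega
    intro i j hij
    fin_cases i <;> fin_cases j <;> simp [r] at hij ⊢ <;> first | exact this hij | exact this hij.symm | skip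
  have h0 : aeval A (∏ j, r j) = 0 := by
    rw [Fin.prod_univ_two, show r 0 * r 1 = (X ^ 3 - 1 : F[X]) by simp [r, hq]; ring]
    simp [hA]
  obtain ⟨k, hk, hdeg, htr, hu⟩ := charpoly_prod r (fun j => by
      fin_cases j
      · exact irreducible_X_sub_C _
      · exact hqi)
    (fun j => by
      fin_cases j
      · exact monic_X_sub_C _
      · exact hqm) hinj A h0
  simp only [Fin.prod_univ_two, Fin.sum_univ_two, r, Matrix.cons_val_zero, Matrix.cons_val_one, natDegree_X_sub_C,
    nextCoeff_X_sub_C, mul_one, map_mul, hqd, hqn] at hk hdeg htr h0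
  refine ⟨k 0, k 1, by omega, ?_, hk, by rw [htr]; ring⟩
  by_contra h
  have hAq : aeval A (X - C 1 : F[X]) = 0 := by
    refine eq_zero_of_unit_mul (hu 1 (by omega)) ?_
    show aeval A q * aeval A (X - C 1) = 0
    rw [← map_mul, mul_comm, map_mul]
    exact h0
  exact hne (by simpa [sub_eq_zero] using hAq)

/-- `A⁵ = 1` with irreducible fifth cyclotomic polynomial. -/
theorem charpoly_five_irred {A : Matrix (Fin 4) (Fin 4) F} (hi : Irreducible (cyclotomic 5 F)) (hA : A ^ 5 = 1)
    (hne : A ≠ 1) : A.charpoly = cyclotomic 5 F := by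
  haveI : Fact (Nat.Prime 5) := ⟨by norm_num⟩
  have hd : (cyclotomic 5 F).natDegree = 4 := by rw [natDegree_cyclotomic]; rfl
  let r : Fin 2 → F[X] := ![X - C 1, cyclotomic 5 F]
  have hinj : Function.Injective r := by
    have : X - C 1 ≠ cyclotomic 5 F := fun h => by
      have := congrArg natDegree h
      rw [natDegree_X_sub_C, hd] at this
      omega
    intro i j hij
    fin_cases i <;> fin_cases j <;> simp [r] at hij ⊢ <;> first | exact this hij | exact this hij.symm | skip
  have h0 : aeval A (∏ j, r j) = 0 := by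
    rw [Fin.prod_univ_two, show r 0 * r 1 = (X ^ 5 - 1 : F[X]) by
      simp only [r, Matrix.cons_val_zero, Matrix.cons_val_one, map_one]
      rw [mul_comm, cyclotomic_prime_mul_X_sub_one]]
    simp [hA]
  obtain ⟨k, hk, hdeg, -, hu⟩ := charpoly_prod r (fun j => by
      fin_cases j
      · exact irreducible_X_sub_C _
      · exact hi)
    (fun j => by
      fin_cases j
      · exact monic_X_sub_C _
      · exact cyclotomic.monic 5 F) hinj A h0
  simp only [Fin.prod_univ_two, Fin.sum_univ_two, r, Matrix.cons_val_zero, Matrix.cons_val_one, natDegree_X_sub_C,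
    mul_one, map_mul, hd] at hk hdeg h0
  rcases Nat.eq_zero_or_pos (k 1) with h1 | h1
  · exfalso
    have hAq : aeval A (X - C 1 : F[X]) = 0 := by
      refine eq_zero_of_unit_mul (hu 1 h1) ?_
      show aeval A (cyclotomic 5 F) * aeval A (X - C 1) = 0
      rw [← map_mul, mul_comm, map_mul]
      exact h0
    exact hne (by simpa [sub_eq_zero] using hAq)
  · rw [hk, show k 0 = 0 by omega, show k 1 = 1 by omega]
    simp

end Cfsg.Agent.Lib.SympFour
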