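import Cfsg.Agent.Lib.SympFour.Elements
import Cfsg.Agent.Lib.SympFour.Poly

/-!
Shared steps for the linear and the unitary statement on symplectic-type groups of order 64 in `GL_4`.
-/

set_option autoImplicit false

namespace Cfsg.Agent.Lib.SympFour

open Matrix Polynomial

variable {F : Type*} [Field F]

/-- Scalar multiples of normalising elements normalise. -/
theorem smul_mem_normalizer {R : Subgroup (GL (Fin 4) F)} {y h : GL (Fin 4) F} {c : F}
    (hy : y ∈ Cfsg.Geo.subgroupNormalizer R) (hh : (h : Matrix (Fin 4) (Fin 4) F) = c • (y : Matrix (Fin 4) (Fin 4) F)) :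
    h ∈ Cfsg.Geo.subgroupNormalizer R := by
  set s := h * y⁻¹ with hs
  have hsv : (s : Matrix (Fin 4) (Fin 4) F) = c • 1 := by
    rw [hs, Units.val_mul, hh, Matrix.smul_mul, ← Units.val_mul, mul_inv_cancel, Units.val_one]
  have hcomm : ∀ x : GL (Fin 4) F, s * x = x * s := fun x => Units.ext (by
    rw [Units.val_mul s x, Units.val_mul x s, hsv, Matrix.smul_mul, one_mul, Matrix.mul_smul, mul_one])
  have hsN : s ∈ Cfsg.Geo.subgroupNormalizer R := by
    show s ∈ Subgroup.normalizer (R : Set (GL (Fin 4) F))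
    rw [Subgroup.mem_normalizer_iff]
    intro x
    rw [hcomm x, mul_inv_cancel_right]
  rw [show h = s * y by rw [hs, inv_mul_cancel_right]]
  exact mul_mem hsN hy

/-- Conjugation in matrices. -/
theorem trace_conj (g x : GL (Fin 4) F) :
    ((g⁻¹ * x * g : GL (Fin 4) F) : Matrix (Fin 4) (Fin 4) F).trace = (x : Matrix (Fin 4) (Fin 4) F).trace := by
  rw [Units.val_mul, Units.val_mul, Matrix.trace_mul_cycle, ← Units.val_mul, mul_inv_cancel, Units.val_one, one_mul]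

theorem trace_conj_inv (g x : GL (Fin 4) F) :
    (((g⁻¹ * x * g)⁻¹ : GL (Fin 4) F) : Matrix (Fin 4) (Fin 4) F).trace =
      ((x⁻¹ : GL (Fin 4) F) : Matrix (Fin 4) (Fin 4) F).trace := by
  rw [show (g⁻¹ * x * g)⁻¹ = g⁻¹ * x⁻¹ * g by group, trace_conj]

theorem val_conj_smul_one (g : GL (Fin 4) F) {x : GL (Fin 4) F} {c : F}
    (h : (x : Matrix (Fin 4) (Fin 4) F) = c • 1) :
    ((g⁻¹ * x * g : GL (Fin 4) F) : Matrix (Fin 4) (Fin 4) F) = c • 1 := by
  rw [Units.val_mul, Units.val_mul, h, Matrix.mul_smul, mul_one, Matrix.smul_mul, ← Units.val_mul, inv_mul_cancel,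
    Units.val_one]

theorem eq_smul_one_of_conj {g x : GL (Fin 4) F} {c : F}
    (h : ((g⁻¹ * x * g : GL (Fin 4) F) : Matrix (Fin 4) (Fin 4) F) = c • 1) :
    (x : Matrix (Fin 4) (Fin 4) F) = c • 1 := by
  have h' := val_conj_smul_one g⁻¹ h
  rwa [inv_inv, show g * (g⁻¹ * x * g) * g⁻¹ = x by group] at h'

theorem pow_conj (g x : GL (Fin 4) F) (n : ℕ) {c : F}
    (h : ((x ^ n : GL (Fin 4) F) : Matrix (Fin 4) (Fin 4) F) = c • 1) :
    (((g⁻¹ * x * g) ^ n : GL (Fin 4) F) : Matrix (Fin 4) (Fin 4) F) = c • 1 := by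
  have h' : (g⁻¹ * x * g) ^ n = g⁻¹ * x ^ n * g := by
    simpa using conj_pow (i := n) (a := g⁻¹) (b := x)
  rw [h']
  exact val_conj_smul_one g h

/-- The square of an element with square scalar. -/
theorem det_smul_one_pow {x : Matrix (Fin 4) (Fin 4) F} {n : ℕ} {z : F} (hd : x.det = 1) (h : x ^ n = z • 1) :
    z ^ 4 = 1 := by
  have h' := congrArg Matrix.det h
  rw [Matrix.det_pow, hd, one_pow, Matrix.det_smul, Matrix.det_one, mul_one, Fintype.card_fin] at h'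
  exact h'.symm

namespace Frame

variable {R : Subgroup (GL (Fin 4) F)} (Φ : Frame R)

include Φ in
/-- An element of period seven or more is not conjugate into the normaliser. -/
theorem not_conj_of_seven_le {r : ℕ} [Fact r.Prime] (hr : 7 ≤ r) {x g : GL (Fin 4) F} {z : F}
    (hz : ((x ^ r : GL (Fin 4) F) : Matrix (Fin 4) (Fin 4) F) = z • 1)
    (hns : ∀ c : F, (x : Matrix (Fin 4) (Fin 4) F) ≠ c • 1) :
    g⁻¹ * x * g ∉ Cfsg.Geo.subgroupNormalizer R := fun h => by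
  obtain ⟨k, hk⟩ := Φ.scalar_of_seven_le h (pow_conj g x r hz) hr
  exact hns k (eq_smul_one_of_conj hk)

include Φ in
/-- The trace restriction for period three. -/
theorem trace_three {x g : GL (Fin 4) F} {z : F}
    (hz : ((x ^ 3 : GL (Fin 4) F) : Matrix (Fin 4) (Fin 4) F) = z • 1)
    (hns : ∀ c : F, (x : Matrix (Fin 4) (Fin 4) F) ≠ c • 1) (h : g⁻¹ * x * g ∈ Cfsg.Geo.subgroupNormalizer R) :
    (x : Matrix (Fin 4) (Fin 4) F).trace * ((x⁻¹ : GL (Fin 4) F) : Matrix (Fin 4) (Fin 4) F).trace = 1 ∨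
      (x : Matrix (Fin 4) (Fin 4) F).trace * ((x⁻¹ : GL (Fin 4) F) : Matrix (Fin 4) (Fin 4) F).trace = 4 := by
  haveI : Fact (Nat.Prime 3) := ⟨by norm_num⟩
  have hz' := pow_conj g x 3 hz
  have ht := Φ.trace_mul_trace_inv h hz' (by decide)
  rw [trace_conj, trace_conj_inv] at ht
  obtain ⟨hd, hm⟩ := Φ.card_fixed h hz'
  have hne : (Φ.fixedV h).card ≠ 16 := fun he => by
    obtain ⟨k, hk⟩ := Φ.scalar_of_all_fixed h hz' (by decide) he
    exact hns k (eq_smul_one_of_conj hk)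
  have hle := Nat.le_of_dvd (by norm_num) hd
  rw [ht]
  interval_cases hc : (Φ.fixedV h).card <;> norm_num at *

include Φ in
/-- The trace restriction for period five. -/
theorem trace_five {x g : GL (Fin 4) F} {z : F}
    (hz : ((x ^ 5 : GL (Fin 4) F) : Matrix (Fin 4) (Fin 4) F) = z • 1)
    (hns : ∀ c : F, (x : Matrix (Fin 4) (Fin 4) F) ≠ c • 1) (h : g⁻¹ * x * g ∈ Cfsg.Geo.subgroupNormalizer R) :
    (x : Matrix (Fin 4) (Fin 4) F).trace * ((x⁻¹ : GL (Fin 4) F) : Matrix (Fin 4) (Fin 4) F).trace = 1 := by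
  haveI : Fact (Nat.Prime 5) := ⟨by norm_num⟩
  have hz' := pow_conj g x 5 hz
  have ht := Φ.trace_mul_trace_inv h hz' (by decide)
  rw [trace_conj, trace_conj_inv] at ht
  obtain ⟨hd, hm⟩ := Φ.card_fixed h hz'
  have hne : (Φ.fixedV h).card ≠ 16 := fun he => by
    obtain ⟨k, hk⟩ := Φ.scalar_of_all_fixed h hz' (by decide) he
    exact hns k (eq_smul_one_of_conj hk)
  have hle := Nat.le_of_dvd (by norm_num) hd
  rw [ht]
  interval_cases hc : (Φ.fixedV h).card <;> norm_num at *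

include Φ in
/-- No quadratic element of period five is conjugate into the normaliser. -/
theorem not_quadratic_five {x g : GL (Fin 4) F} {z α β : F}
    (hz : ((x ^ 5 : GL (Fin 4) F) : Matrix (Fin 4) (Fin 4) F) = z • 1)
    (hns : ∀ c : F, (x : Matrix (Fin 4) (Fin 4) F) ≠ c • 1)
    (hq : ((x : Matrix (Fin 4) (Fin 4) F) - α • 1) * ((x : Matrix (Fin 4) (Fin 4) F) - β • 1) = 0) :
    g⁻¹ * x * g ∉ Cfsg.Geo.subgroupNormalizer R := fun h => by
  haveI : Fact (Nat.Prime 5) := ⟨by norm_num⟩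
  refine Φ.no_quadratic h (pow_conj g x 5 hz) (α := α) (β := β) rfl (fun k hk => hns k (eq_smul_one_of_conj hk)) ?_
  have hsub : ∀ γ : F, ((g⁻¹ * x * g : GL (Fin 4) F) : Matrix (Fin 4) (Fin 4) F) - γ • 1 =
      ((g⁻¹ : GL (Fin 4) F) : Matrix (Fin 4) (Fin 4) F) * ((x : Matrix (Fin 4) (Fin 4) F) - γ • 1) *
        (g : Matrix (Fin 4) (Fin 4) F) := by
    intro γ
    rw [mul_sub, sub_mul, Matrix.mul_smul, mul_one, Matrix.smul_mul, ← Units.val_mul g⁻¹ g, inv_mul_cancel,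
      Units.val_one, Units.val_mul, Units.val_mul]
  rw [hsub, hsub]
  calc _ = ((g⁻¹ : GL (Fin 4) F) : Matrix (Fin 4) (Fin 4) F) * (((x : Matrix (Fin 4) (Fin 4) F) - α • 1) *
        (((g : Matrix (Fin 4) (Fin 4) F) * ((g⁻¹ : GL (Fin 4) F) : Matrix (Fin 4) (Fin 4) F)) *
          ((x : Matrix (Fin 4) (Fin 4) F) - β • 1))) * (g : Matrix (Fin 4) (Fin 4) F) := by
        simp only [mul_assoc]
    _ = 0 := by rw [← Units.val_mul, mul_inv_cancel, Units.val_one, one_mul, hq, mul_zero, zero_mul]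

lemma A_not_scalar (c : F) : Φ.A ≠ c • 1 := fun h => by
  have h0 := (Φ.t_eq_zero_iff Φ.a).2
  have hc : c ^ 4 = 1 := by
    have h2 := Φ.AA
    rw [h, Matrix.smul_mul, one_mul, smul_smul] at h2
    have : c * c = 1 := by simpa using congrFun (congrFun h2 0) 0
    linear_combination (c * c + 1) * this
  have := h0 ⟨c, hc, h⟩
  rw [t_a] at this
  exact absurd this (by decide)

lemma T_not_scalar (c : F) : Φ.T ≠ c • 1 := fun h => by
  have h2 := Φ.T_conj_B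
  rw [h, Matrix.smul_mul, one_mul, Matrix.mul_smul, mul_one, smul_smul] at h2
  have hC : Φ.C = (c * c) • 1 := by
    calc Φ.C = Φ.B * (Φ.B * Φ.C) := by rw [BB']
      _ = (c * c) • 1 := by rw [← h2, Matrix.mul_smul, BB]
  have h4 : (c * c) ^ 4 = 1 := by
    have h3 := Φ.CC
    rw [hC, Matrix.smul_mul, one_mul, smul_smul] at h3
    have : c * c * (c * c) = 1 := by simpa using congrFun (congrFun h3 0) 0
    linear_combination (c * c * (c * c) + 1) * this
  have := (Φ.t_eq_zero_iff Φ.c).2 ⟨_, h4, hC⟩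
  rw [t_c] at this
  exact absurd this (by decide)

include Φ in
lemma four_cases {a b : ℕ} (hab : a + b = 4) (ha : 1 ≤ a) (hb : 1 ≤ b) :
    ((a : F) - b = 0 → a = 2 ∧ b = 2) ∧ ((a : F) - b = 2 → a = 3 ∧ b = 1) ∧
      ((a : F) - b = -2 → a = 1 ∧ b = 3) := by
  have h2 := Φ.two
  have h4 := Φ.four_ne
  have hb' : b = 4 - a := by omega
  subst hb'
  have ha' : a ≤ 3 := by omega
  interval_cases a <;> refine ⟨fun h => ?_, fun h => ?_, fun h => ?_⟩ <;>
    first | exact ⟨rfl, rfl⟩ | (exfalso; norm_num at h; grind)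

/-- The targets for the elements of order two. -/
theorem sq_target {s : F} (hs : s ≠ 0) {a b : ℕ} (hab : a + b = 4) (ha : 1 ≤ a) (hb : 1 ≤ b) :
    ∃ (M : Matrix (Fin 4) (Fin 4) F) (y : GL (Fin 4) F), y ∈ Cfsg.Geo.subgroupNormalizer R ∧
      (y : Matrix (Fin 4) (Fin 4) F) = M ∧ (M = Φ.A ∨ M = Φ.T ∨ M = -Φ.T) ∧ M * M = 1 ∧
      (s • M).charpoly = (X - Polynomial.C s) ^ a * (X - Polynomial.C (-s)) ^ b := by
  have hss : s + s ≠ 0 := by
    rw [← two_mul]; exact mul_ne_zero Φ.two hs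
  have key : ∀ (M : Matrix (Fin 4) (Fin 4) F) (d : F), M * M = 1 → (∀ c : F, M ≠ c • 1) → M.trace = d →
      ∃ a' b' : ℕ, 1 ≤ a' ∧ 1 ≤ b' ∧ a' + b' = 4 ∧ (s • M).charpoly = (X - Polynomial.C s) ^ a' * (X - Polynomial.C (-s)) ^ b' ∧
        (a' : F) - b' = d := by
    intro M d hM hns hd
    obtain ⟨a', b', h1, h2, h3, h4, h5⟩ := charpoly_sq (A := s • M) hss
      (by rw [Matrix.smul_mul, Matrix.mul_smul, smul_smul, hM]) (fun c hc => hns (s⁻¹ * c) (by
        rw [← smul_smul, ← hc, smul_smul, inv_mul_cancel₀ hs, one_smul]))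
    refine ⟨a', b', h1, h2, h3, h4, ?_⟩
    rw [Matrix.trace_smul, hd, smul_eq_mul, mul_comm] at h5
    exact (mul_right_cancel₀ hs h5).symm
  have hcases : (a = 2 ∧ b = 2) ∨ (a = 3 ∧ b = 1) ∨ (a = 1 ∧ b = 3) := by omega
  rcases hcases with ⟨rfl, rfl⟩ | ⟨rfl, rfl⟩ | ⟨rfl, rfl⟩
  · obtain ⟨a', b', h1, h2, h3, h4, h5⟩ := key Φ.A 0 Φ.AA Φ.A_not_scalar Φ.trace_A
    obtain ⟨rfl, rfl⟩ := (Φ.four_cases h3 h1 h2).1 h5
    exact ⟨Φ.A, Φ.a, Subgroup.le_normalizer Φ.a.2, rfl, Or.inl rfl, Φ.AA, h4⟩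
  · obtain ⟨a', b', h1, h2, h3, h4, h5⟩ := key Φ.T 2 Φ.T_sq Φ.T_not_scalar Φ.trace_T
    obtain ⟨rfl, rfl⟩ := (Φ.four_cases h3 h1 h2).2.1 h5
    obtain ⟨y, hy, hyT⟩ := Φ.exists_T
    exact ⟨Φ.T, y, hy, hyT, Or.inr (Or.inl rfl), Φ.T_sq, h4⟩
  · obtain ⟨a', b', h1, h2, h3, h4, h5⟩ := key (-Φ.T) (-2) (by rw [neg_mul_neg]; exact Φ.T_sq)
      (fun c hc => Φ.T_not_scalar (-c) (by rw [neg_smul, ← hc, neg_neg])) (by rw [Matrix.trace_neg, trace_T])
    obtain ⟨rfl, rfl⟩ := (Φ.four_cases h3 h1 h2).2.2 h5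
    obtain ⟨y, hy, hyT⟩ := Φ.exists_T
    refine ⟨-Φ.T, -y, ?_, by rw [Units.val_neg, hyT], Or.inr (Or.inr rfl), by rw [neg_mul_neg]; exact Φ.T_sq, h4⟩
    exact smul_mem_normalizer (c := -1) hy (by rw [Units.val_neg, neg_smul, one_smul])

end Frame

end Cfsg.Agent.Lib.SympFour
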