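import Cfsg.Agent.Lib.SympFour.Avoid

/-!
Elements of order two, three and five normalising a symplectic-type group of order 64 in `GL_4`.
-/

set_option autoImplicit false

namespace Cfsg.Agent.Lib.SympFour.Frame

open Matrix

variable {F : Type*} [Field F] {R : Subgroup (GL (Fin 4) F)} (Φ : Frame R)

/-- The four generating matrices. -/
def A : Matrix (Fin 4) (Fin 4) F := mat R Φ.a
/-- The four generating matrices. -/
def B : Matrix (Fin 4) (Fin 4) F := mat R Φ.b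
/-- The four generating matrices. -/
def C : Matrix (Fin 4) (Fin 4) F := mat R Φ.c
/-- The four generating matrices. -/
def D : Matrix (Fin 4) (Fin 4) F := mat R Φ.d

lemma AA : Φ.A * Φ.A = 1 := Φ.haa
lemma BB : Φ.B * Φ.B = 1 := Φ.hbb
lemma CC : Φ.C * Φ.C = 1 := Φ.hcc
lemma DD : Φ.D * Φ.D = 1 := Φ.hdd
lemma BA : Φ.B * Φ.A = -(Φ.A * Φ.B) := Φ.hba
lemma DC : Φ.D * Φ.C = -(Φ.C * Φ.D) := Φ.hdc
lemma CA : Φ.C * Φ.A = Φ.A * Φ.C := Φ.hca
lemma CB : Φ.C * Φ.B = Φ.B * Φ.C := Φ.hcb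
lemma DA : Φ.D * Φ.A = Φ.A * Φ.D := Φ.hda
lemma DB : Φ.D * Φ.B = Φ.B * Φ.D := Φ.hdb
lemma AA' (M : Matrix (Fin 4) (Fin 4) F) : Φ.A * (Φ.A * M) = M := by rw [← mul_assoc, AA, one_mul]
lemma BB' (M : Matrix (Fin 4) (Fin 4) F) : Φ.B * (Φ.B * M) = M := by rw [← mul_assoc, BB, one_mul]
lemma CC' (M : Matrix (Fin 4) (Fin 4) F) : Φ.C * (Φ.C * M) = M := by rw [← mul_assoc, CC, one_mul]
lemma DD' (M : Matrix (Fin 4) (Fin 4) F) : Φ.D * (Φ.D * M) = M := by rw [← mul_assoc, DD, one_mul]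
lemma BA' (M : Matrix (Fin 4) (Fin 4) F) : Φ.B * (Φ.A * M) = -(Φ.A * (Φ.B * M)) := by
  rw [← mul_assoc, BA, neg_mul, mul_assoc]
lemma DC' (M : Matrix (Fin 4) (Fin 4) F) : Φ.D * (Φ.C * M) = -(Φ.C * (Φ.D * M)) := by
  rw [← mul_assoc, DC, neg_mul, mul_assoc]
lemma CA' (M : Matrix (Fin 4) (Fin 4) F) : Φ.C * (Φ.A * M) = Φ.A * (Φ.C * M) := by
  rw [← mul_assoc, CA, mul_assoc]
lemma CB' (M : Matrix (Fin 4) (Fin 4) F) : Φ.C * (Φ.B * M) = Φ.B * (Φ.C * M) := by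
  rw [← mul_assoc, CB, mul_assoc]
lemma DA' (M : Matrix (Fin 4) (Fin 4) F) : Φ.D * (Φ.A * M) = Φ.A * (Φ.D * M) := by
  rw [← mul_assoc, DA, mul_assoc]
lemma DB' (M : Matrix (Fin 4) (Fin 4) F) : Φ.D * (Φ.B * M) = Φ.B * (Φ.D * M) := by
  rw [← mul_assoc, DB, mul_assoc]

/-- The group elements are generated by the frame and scalars. -/
theorem generation (S : Subgroup R) (hs : ∀ x : R, Φ.t x = 0 → x ∈ S) (ha : Φ.a ∈ S) (hb : Φ.b ∈ S)
    (hc : Φ.c ∈ S) (hd : Φ.d ∈ S) (x : R) : x ∈ S := by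
  let pw : ZMod 2 → R → R := fun z y => if z = 0 then 1 else y
  set v := Φ.t x
  set y : R := pw (v 0) Φ.a * pw (v 1) Φ.b * pw (v 2) Φ.c * pw (v 3) Φ.d with hy
  have hpw : ∀ z y, y ∈ S → pw z y ∈ S := by
    intro z y hy
    by_cases hz : z = 0
    · simp only [pw, hz, if_true]; exact S.one_mem
    · simp only [pw, hz, if_false]; exact hy
  have hyS : y ∈ S := S.mul_mem (S.mul_mem (S.mul_mem (hpw _ _ ha) (hpw _ _ hb)) (hpw _ _ hc)) (hpw _ _ hd)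
  have h01 : ∀ z : ZMod 2, z = 0 ∨ z = 1 := by decide
  have hp : ∀ z y, Φ.t (pw z y) = z • Φ.t y := by
    intro z y
    rcases h01 z with rfl | rfl <;> simp [pw, t_one]
  have hty : Φ.t y = v := by
    rw [hy, t_mul, t_mul, t_mul, hp, hp, hp, hp, t_a, t_b, t_c, t_d]
    funext k
    fin_cases k <;> simp
  have h0 : Φ.t (x * y⁻¹) = 0 := by
    have h1 : Φ.t (x * y⁻¹) + Φ.t y = Φ.t x := by rw [← t_mul, inv_mul_cancel_right]
    rw [hty] at h1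
    simpa [v] using h1
  have := S.mul_mem (hs _ h0) hyS
  rwa [inv_mul_cancel_right] at this

/-- Commuting with the frame forces a scalar. -/
theorem scalar_of_commute (M : Matrix (Fin 4) (Fin 4) F) (ha : M * Φ.A = Φ.A * M) (hb : M * Φ.B = Φ.B * M)
    (hc : M * Φ.C = Φ.C * M) (hd : M * Φ.D = Φ.D * M) : ∃ k : F, M = k • 1 := by
  let S : Subgroup R :=
    { carrier := {x | M * mat R x = mat R x * M}
      mul_mem' := fun {x y} hx hy => by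
        show M * mat R (x * y) = mat R (x * y) * M
        rw [map_mul, ← mul_assoc, hx, mul_assoc, hy, mul_assoc]
      one_mem' := by show M * mat R 1 = mat R 1 * M; rw [map_one, one_mul, mul_one]
      inv_mem' := fun {x} hx => by
        show M * mat R x⁻¹ = mat R x⁻¹ * M
        have h1 : mat R x⁻¹ * mat R x = 1 := by rw [← map_mul, inv_mul_cancel, map_one]
        have h2 : mat R x * mat R x⁻¹ = 1 := by rw [← map_mul, mul_inv_cancel, map_one]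
        calc M * mat R x⁻¹ = mat R x⁻¹ * (mat R x * M) * mat R x⁻¹ := by rw [← mul_assoc, h1, one_mul]
          _ = mat R x⁻¹ * (M * mat R x) * mat R x⁻¹ := by rw [hx]
          _ = mat R x⁻¹ * M := by rw [mul_assoc, mul_assoc, h2, mul_one] }
  have hall : ∀ x, x ∈ S := Φ.generation S (fun x hx => by
    obtain ⟨k, -, hk⟩ := (Φ.t_eq_zero_iff x).1 hx
    show M * mat R x = mat R x * M
    rw [hk, Matrix.mul_smul, mul_one, Matrix.smul_mul, one_mul]) ha hb hc hd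
  have hcomm : ∀ X, M * X = X * M := by
    intro X
    have hX : X ∈ Submodule.span F (Set.range Φ.mv) := by rw [Φ.span_mv]; trivial
    induction hX using Submodule.span_induction with
    | zero => simp
    | add x y _ _ hx hy => rw [mul_add, add_mul, hx, hy]
    | smul k x _ hx => rw [Matrix.mul_smul, Matrix.smul_mul, hx]
    | mem x hx =>
      obtain ⟨w, rfl⟩ := hx
      exact hall (Φ.rep w)
  obtain ⟨k, hk⟩ := Matrix.mem_range_scalar_of_commute_single (M := M) (fun i j _ => (hcomm _).symm)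
  exact ⟨k, by rw [← hk, Matrix.smul_one_eq_diagonal]; rfl⟩

lemma mem_of_eq_smul {g : GL (Fin 4) F} (x : R) (k : F) (hk : k ^ 4 = 1)
    (h : (g : Matrix (Fin 4) (Fin 4) F) = k • mat R x) (Φ : Frame R) : g ∈ R := by
  obtain ⟨z, hz⟩ := Φ.scal k hk
  have : g = ((z * x : R) : GL (Fin 4) F) := Units.ext (by
    show _ = mat R (z * x)
    rw [h, map_mul, hz, Matrix.smul_mul, one_mul])
  rw [this]
  exact (z * x).2

lemma i_pow_four : Φ.i ^ 4 = 1 := by linear_combination (Φ.i * Φ.i - 1) * Φ.hi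

lemma neg_i_pow_four : (-Φ.i) ^ 4 = 1 := by linear_combination (Φ.i * Φ.i - 1) * Φ.hi

/-- Two sided inverse matrices give an element; criterion for normalising. -/
theorem exists_normalizer {M M' : Matrix (Fin 4) (Fin 4) F} (h : M * M' = 1) (x₁ x₂ x₃ x₄ : R) (k₁ k₂ k₃ k₄ : F)
    (hk₁ : k₁ ^ 4 = 1) (hk₂ : k₂ ^ 4 = 1) (hk₃ : k₃ ^ 4 = 1) (hk₄ : k₄ ^ 4 = 1)
    (h₁ : M * Φ.A * M' = k₁ • mat R x₁) (h₂ : M * Φ.B * M' = k₂ • mat R x₂)
    (h₃ : M * Φ.C * M' = k₃ • mat R x₃) (h₄ : M * Φ.D * M' = k₄ • mat R x₄) :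
    ∃ g ∈ Cfsg.Geo.subgroupNormalizer R, (g : Matrix (Fin 4) (Fin 4) F) = M := by
  let g : GL (Fin 4) F := ⟨M, M', h, mul_eq_one_comm.1 h⟩
  refine ⟨g, Φ.mem_normalizer g ?_ ?_ ?_ ?_, rfl⟩
  · exact mem_of_eq_smul x₁ k₁ hk₁ h₁ Φ
  · exact mem_of_eq_smul x₂ k₂ hk₂ h₂ Φ
  · exact mem_of_eq_smul x₃ k₃ hk₃ h₃ Φ
  · exact mem_of_eq_smul x₄ k₄ hk₄ h₄ Φ

/-- The involution of type `(3, 1)`. -/
def T : Matrix (Fin 4) (Fin 4) F := (2 : F)⁻¹ • (1 + Φ.A + Φ.C - Φ.A * Φ.C)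

lemma T_sq : Φ.T * Φ.T = 1 := by
  have h4 := Φ.four_ne
  simp only [T, Matrix.smul_mul, Matrix.mul_smul, mul_add, add_mul, mul_sub, sub_mul, one_mul, mul_one, mul_assoc,
    AA, CC, CA, CA', AA', CC']
  match_scalars <;> first | grind | (field_simp; grind)

lemma T_conj_B : Φ.T * Φ.B * Φ.T = Φ.B * Φ.C := by
  have h4 := Φ.four_ne
  have h2 := Φ.two
  simp only [T, Matrix.smul_mul, Matrix.mul_smul, mul_add, add_mul, mul_sub, sub_mul, one_mul, mul_one, mul_assoc,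
    AA, BB, CC, BA, CA, CB, AA', BB', CC', BA', CA', CB', mul_neg, neg_mul, neg_neg]
  match_scalars <;> first | grind | (field_simp; grind)

lemma T_conj_D : Φ.T * Φ.D * Φ.T = Φ.A * Φ.D := by
  have h4 := Φ.four_ne
  have h2 := Φ.two
  simp only [T, Matrix.smul_mul, Matrix.mul_smul, mul_add, add_mul, mul_sub, sub_mul, one_mul, mul_one, mul_assoc,
    AA, CC, DD, CA, DA, DC, AA', CC', DD', CA', DA', DC', mul_neg, neg_mul, neg_neg]
  match_scalars <;> first | grind | (field_simp; grind)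

lemma T_conj_A : Φ.T * Φ.A * Φ.T = Φ.A := by
  have h : Φ.T * Φ.A = Φ.A * Φ.T := by
    simp only [T, Matrix.smul_mul, Matrix.mul_smul, mul_add, add_mul, mul_sub, sub_mul, one_mul, mul_one, mul_assoc,
      AA, CA, AA', CA']
  rw [h, mul_assoc, T_sq, mul_one]

lemma T_conj_C : Φ.T * Φ.C * Φ.T = Φ.C := by
  have h : Φ.T * Φ.C = Φ.C * Φ.T := by
    simp only [T, Matrix.smul_mul, Matrix.mul_smul, mul_add, add_mul, mul_sub, sub_mul, one_mul, mul_one, mul_assoc,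
      CC, CA, CC', CA']
  rw [h, mul_assoc, T_sq, mul_one]

lemma trace_word (x : R) (hx : Φ.t x ≠ 0) : (mat R x).trace = 0 := Φ.trace_of_t_ne_zero x hx

lemma trace_A : Φ.A.trace = 0 := Φ.trace_of_t_ne_zero _ (by rw [t_a]; decide)
lemma trace_B : Φ.B.trace = 0 := Φ.trace_of_t_ne_zero _ (by rw [t_b]; decide)
lemma trace_C : Φ.C.trace = 0 := Φ.trace_of_t_ne_zero _ (by rw [t_c]; decide)
lemma trace_D : Φ.D.trace = 0 := Φ.trace_of_t_ne_zero _ (by rw [t_d]; decide)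
lemma trace_AB : (Φ.A * Φ.B).trace = 0 := by
  rw [A, B, ← map_mul]; exact Φ.trace_of_t_ne_zero _ (by rw [t_mul, t_a, t_b]; decide)
lemma trace_AC : (Φ.A * Φ.C).trace = 0 := by
  rw [A, C, ← map_mul]; exact Φ.trace_of_t_ne_zero _ (by rw [t_mul, t_a, t_c]; decide)
lemma trace_AD : (Φ.A * Φ.D).trace = 0 := by
  rw [A, D, ← map_mul]; exact Φ.trace_of_t_ne_zero _ (by rw [t_mul, t_a, t_d]; decide)
lemma trace_BC : (Φ.B * Φ.C).trace = 0 := by
  rw [B, C, ← map_mul]; exact Φ.trace_of_t_ne_zero _ (by rw [t_mul, t_b, t_c]; decide)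
lemma trace_BD : (Φ.B * Φ.D).trace = 0 := by
  rw [B, D, ← map_mul]; exact Φ.trace_of_t_ne_zero _ (by rw [t_mul, t_b, t_d]; decide)
lemma trace_CD : (Φ.C * Φ.D).trace = 0 := by
  rw [C, D, ← map_mul]; exact Φ.trace_of_t_ne_zero _ (by rw [t_mul, t_c, t_d]; decide)
lemma trace_ABC : (Φ.A * (Φ.B * Φ.C)).trace = 0 := by
  rw [A, B, C, ← map_mul, ← map_mul]; exact Φ.trace_of_t_ne_zero _ (by rw [t_mul, t_mul, t_a, t_b, t_c]; decide)
lemma trace_ABD : (Φ.A * (Φ.B * Φ.D)).trace = 0 := by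
  rw [A, B, D, ← map_mul, ← map_mul]; exact Φ.trace_of_t_ne_zero _ (by rw [t_mul, t_mul, t_a, t_b, t_d]; decide)
lemma trace_ACD : (Φ.A * (Φ.C * Φ.D)).trace = 0 := by
  rw [A, C, D, ← map_mul, ← map_mul]; exact Φ.trace_of_t_ne_zero _ (by rw [t_mul, t_mul, t_a, t_c, t_d]; decide)
lemma trace_BCD : (Φ.B * (Φ.C * Φ.D)).trace = 0 := by
  rw [B, C, D, ← map_mul, ← map_mul]; exact Φ.trace_of_t_ne_zero _ (by rw [t_mul, t_mul, t_b, t_c, t_d]; decide)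
lemma trace_ABCD : (Φ.A * (Φ.B * (Φ.C * Φ.D))).trace = 0 := by
  rw [A, B, C, D, ← map_mul, ← map_mul, ← map_mul]
  exact Φ.trace_of_t_ne_zero _ (by rw [t_mul, t_mul, t_mul, t_a, t_b, t_c, t_d]; decide)

lemma trace_T : Φ.T.trace = 2 := by
  have h2 := Φ.two
  rw [T, Matrix.trace_smul, Matrix.trace_sub, Matrix.trace_add, Matrix.trace_add, trace_A, trace_C, trace_AC,
    Matrix.trace_one, smul_eq_mul, Fintype.card_fin]
  push_cast
  field_simp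
  ring

theorem exists_T : ∃ g ∈ Cfsg.Geo.subgroupNormalizer R, (g : Matrix (Fin 4) (Fin 4) F) = Φ.T := by
  refine Φ.exists_normalizer Φ.T_sq Φ.a (Φ.b * Φ.c) Φ.c (Φ.a * Φ.d) 1 1 1 1 (one_pow 4) (one_pow 4) (one_pow 4)
    (one_pow 4) ?_ ?_ ?_ ?_ <;> rw [one_smul]
  · exact Φ.T_conj_A
  · rw [map_mul]; exact Φ.T_conj_B
  · exact Φ.T_conj_C
  · rw [map_mul]; exact Φ.T_conj_D

/-- An element of order three permuting the first pair cyclically. -/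
def U : Matrix (Fin 4) (Fin 4) F := (2 : F)⁻¹ • (-1 + Φ.i • Φ.A + Φ.i • Φ.B - Φ.A * Φ.B)
/-- Its inverse. -/
def U' : Matrix (Fin 4) (Fin 4) F := (2 : F)⁻¹ • (-1 - Φ.i • Φ.A - Φ.i • Φ.B + Φ.A * Φ.B)
/-- An element of order three permuting the second pair cyclically. -/
def W : Matrix (Fin 4) (Fin 4) F := (2 : F)⁻¹ • (-1 + Φ.i • Φ.C + Φ.i • Φ.D - Φ.C * Φ.D)
/-- Its inverse. -/
def W' : Matrix (Fin 4) (Fin 4) F := (2 : F)⁻¹ • (-1 - Φ.i • Φ.C - Φ.i • Φ.D + Φ.C * Φ.D)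

lemma U_mul_U' : Φ.U * Φ.U' = 1 ∧ Φ.U * Φ.U = Φ.U' ∧ Φ.U * Φ.A * Φ.U' = Φ.i • (Φ.A * Φ.B) ∧
    Φ.U * Φ.B * Φ.U' = Φ.A := by
  have h4 := Φ.four_ne
  have h2 := Φ.two
  have hi := Φ.hi
  refine ⟨?_, ?_, ?_, ?_⟩ <;>
    simp only [U, U', Matrix.smul_mul, Matrix.mul_smul, mul_add, add_mul, mul_sub, sub_mul, one_mul, mul_one,
      mul_assoc, smul_smul, smul_add, smul_sub, AA, BB, BA, AA', BB', BA', mul_neg, neg_mul, neg_neg, smul_neg] <;>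
    match_scalars <;> field_simp <;> grind

lemma W_mul_W' : Φ.W * Φ.W' = 1 ∧ Φ.W * Φ.W = Φ.W' ∧ Φ.W * Φ.C * Φ.W' = Φ.i • (Φ.C * Φ.D) ∧
    Φ.W * Φ.D * Φ.W' = Φ.C := by
  have h4 := Φ.four_ne
  have h2 := Φ.two
  have hi := Φ.hi
  refine ⟨?_, ?_, ?_, ?_⟩ <;>
    simp only [W, W', Matrix.smul_mul, Matrix.mul_smul, mul_add, add_mul, mul_sub, sub_mul, one_mul, mul_one,
      mul_assoc, smul_smul, smul_add, smul_sub, CC, DD, DC, CC', DD', DC', mul_neg, neg_mul, neg_neg, smul_neg] <;>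
    match_scalars <;> field_simp <;> grind

lemma U_comm : Φ.U * Φ.C = Φ.C * Φ.U ∧ Φ.U * Φ.D = Φ.D * Φ.U ∧ Φ.U * Φ.W = Φ.W * Φ.U ∧
    Φ.W * Φ.A = Φ.A * Φ.W ∧ Φ.W * Φ.B = Φ.B * Φ.W := by
  refine ⟨?_, ?_, ?_, ?_, ?_⟩ <;>
    simp only [U, W, Matrix.smul_mul, Matrix.mul_smul, mul_add, add_mul, mul_sub, sub_mul, one_mul, mul_one,
      mul_assoc, smul_smul, smul_add, smul_sub, CA, CB, DA, DB, CA', CB', DA', DB', mul_neg, neg_mul, neg_neg,
      smul_neg] <;>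
    (try match_scalars <;> ring)

lemma U_pow_three : Φ.U ^ 3 = 1 := by
  rw [pow_succ, pow_two, Φ.U_mul_U'.2.1]
  exact mul_eq_one_comm.1 Φ.U_mul_U'.1

lemma W_pow_three : Φ.W ^ 3 = 1 := by
  rw [pow_succ, pow_two, Φ.W_mul_W'.2.1]
  exact mul_eq_one_comm.1 Φ.W_mul_W'.1

lemma UW_pow_three : (Φ.U * Φ.W) ^ 3 = 1 := by
  rw [Commute.mul_pow Φ.U_comm.2.2.1, U_pow_three, W_pow_three, one_mul]

lemma trace_U : Φ.U.trace = -2 := by
  have h2 := Φ.two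
  simp only [U, Matrix.trace_smul, Matrix.trace_sub, Matrix.trace_add, Matrix.trace_neg, trace_A, trace_B, trace_AB,
    Matrix.trace_one, smul_eq_mul, Fintype.card_fin]
  push_cast
  field_simp
  ring

lemma trace_UW : (Φ.U * Φ.W).trace = 1 := by
  have h2 := Φ.two
  have h4 := Φ.four_ne
  simp only [U, W, Matrix.smul_mul, Matrix.mul_smul, mul_add, add_mul, mul_sub, sub_mul, one_mul, mul_one,
    mul_neg, neg_mul, mul_assoc, Matrix.trace_smul, Matrix.trace_sub, Matrix.trace_add, Matrix.trace_neg,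
    trace_A, trace_B, trace_C, trace_D, trace_AB, trace_AC, trace_AD, trace_BC, trace_BD, trace_CD, trace_ABC,
    trace_ABD, trace_ACD, trace_BCD, trace_ABCD, Matrix.trace_one, smul_eq_mul, Fintype.card_fin, mul_zero,
    add_zero, sub_zero, neg_zero]
  push_cast
  field_simp
  grind

theorem exists_U : ∃ g ∈ Cfsg.Geo.subgroupNormalizer R, (g : Matrix (Fin 4) (Fin 4) F) = Φ.U := by
  obtain ⟨h1, -, hA, hB⟩ := Φ.U_mul_U'
  obtain ⟨hC, hD, -⟩ := Φ.U_comm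
  refine Φ.exists_normalizer h1 (Φ.a * Φ.b) Φ.a Φ.c Φ.d Φ.i 1 1 1 Φ.i_pow_four (one_pow 4) (one_pow 4)
    (one_pow 4) ?_ ?_ ?_ ?_
  · rw [map_mul]; exact hA
  · rw [one_smul]; exact hB
  · rw [one_smul, hC, mul_assoc, h1, mul_one]; rfl
  · rw [one_smul, hD, mul_assoc, h1, mul_one]; rfl

theorem exists_W : ∃ g ∈ Cfsg.Geo.subgroupNormalizer R, (g : Matrix (Fin 4) (Fin 4) F) = Φ.W := by
  obtain ⟨h1, -, hC, hD⟩ := Φ.W_mul_W'
  obtain ⟨-, -, -, hA, hB⟩ := Φ.U_comm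
  refine Φ.exists_normalizer h1 Φ.a Φ.b (Φ.c * Φ.d) Φ.c 1 1 Φ.i 1 (one_pow 4) (one_pow 4) Φ.i_pow_four
    (one_pow 4) ?_ ?_ ?_ ?_
  · rw [one_smul, hA, mul_assoc, h1, mul_one]; rfl
  · rw [one_smul, hB, mul_assoc, h1, mul_one]; rfl
  · rw [map_mul]; exact hC
  · rw [one_smul]; exact hD

theorem exists_UW : ∃ g ∈ Cfsg.Geo.subgroupNormalizer R, (g : Matrix (Fin 4) (Fin 4) F) = Φ.U * Φ.W := by
  obtain ⟨u, hu, hu'⟩ := Φ.exists_U
  obtain ⟨w, hw, hw'⟩ := Φ.exists_W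
  exact ⟨u * w, mul_mem hu hw, by rw [Units.val_mul, hu', hw']⟩

/-- Five pairwise anticommuting involutions. -/
def e : Fin 5 → Matrix (Fin 4) (Fin 4) F :=
  ![Φ.A, Φ.B, Φ.i • (Φ.A * Φ.B * Φ.C), Φ.i • (Φ.A * Φ.B * Φ.D), Φ.A * Φ.B * (Φ.C * Φ.D)]

lemma e_sq (j : Fin 5) : Φ.e j * Φ.e j = 1 := by
  have hi := Φ.hi
  fin_cases j <;>
    simp [e, mul_assoc, Matrix.smul_mul, Matrix.mul_smul, smul_smul, AA, BB, CC, DD, BA, CA, CB, DA, DB, DC,
      AA', BB', CC', DD', BA', CA', CB', DA', DB', DC', hi]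

lemma e_anti (j k : Fin 5) (h : j ≠ k) : Φ.e j * Φ.e k = -(Φ.e k * Φ.e j) := by
  fin_cases j <;> fin_cases k <;> first
    | exact absurd rfl h
    | simp [e, mul_assoc, Matrix.smul_mul, Matrix.mul_smul, smul_smul, AA, BB, CC, DD, BA, CA, CB, DA, DB, DC,
        AA', BB', CC', DD', BA', CA', CB', DA', DB', DC']

/-- The difference of consecutive involutions. -/
def f (j : Fin 4) : Matrix (Fin 4) (Fin 4) F := Φ.e j.castSucc - Φ.e j.succ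

lemma f_sq (j : Fin 4) : Φ.f j * Φ.f j = (2 : F) • 1 := by
  rw [f, sub_mul, mul_sub, mul_sub, e_sq, e_sq, e_anti _ _ _ (Fin.castSucc_lt_succ (i := j)).ne, two_smul]
  abel

lemma f_left (j : Fin 4) : Φ.f j * Φ.e j.castSucc = -(Φ.e j.succ * Φ.f j) := by
  rw [f, sub_mul, mul_sub, e_sq, e_sq, neg_sub]

lemma f_right (j : Fin 4) : Φ.f j * Φ.e j.succ = -(Φ.e j.castSucc * Φ.f j) := by
  rw [f, sub_mul, mul_sub, e_sq, e_sq, neg_sub]

lemma f_other (j : Fin 4) (k : Fin 5) (h1 : k ≠ j.castSucc) (h2 : k ≠ j.succ) :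
    Φ.f j * Φ.e k = -(Φ.e k * Φ.f j) := by
  rw [f, sub_mul, mul_sub, e_anti _ _ _ h1.symm, e_anti _ _ _ h2.symm]
  abel

/-- The five-cycle. -/
def G : Matrix (Fin 4) (Fin 4) F := (4 : F)⁻¹ • (Φ.f 0 * (Φ.f 1 * (Φ.f 2 * Φ.f 3)))
/-- Its inverse. -/
def G' : Matrix (Fin 4) (Fin 4) F := (4 : F)⁻¹ • (Φ.f 3 * (Φ.f 2 * (Φ.f 1 * Φ.f 0)))

lemma G_mul_G' : Φ.G * Φ.G' = 1 := by
  have h : ∀ (j : Fin 4) (M : Matrix (Fin 4) (Fin 4) F), Φ.f j * (Φ.f j * M) = (2 : F) • M := fun j M => by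
    rw [← mul_assoc, f_sq, Matrix.smul_mul, one_mul]
  simp only [G, G', Matrix.smul_mul, Matrix.mul_smul, mul_assoc, h, f_sq, smul_smul]
  have h4 := Φ.four_ne
  match_scalars
  field_simp
  norm_num

lemma G_e (j : Fin 5) : Φ.G * Φ.e j = Φ.e (j + 1) * Φ.G := by
  simp only [G, Matrix.smul_mul, Matrix.mul_smul]
  congr 1
  have L : ∀ (k : Fin 4) (M : Matrix (Fin 4) (Fin 4) F), Φ.f k * (Φ.e k.castSucc * M) = -(Φ.e k.succ * (Φ.f k * M)) :=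
    fun k M => by rw [← mul_assoc, f_left, neg_mul, mul_assoc]
  have R' : ∀ (k : Fin 4) (M : Matrix (Fin 4) (Fin 4) F), Φ.f k * (Φ.e k.succ * M) = -(Φ.e k.castSucc * (Φ.f k * M)) :=
    fun k M => by rw [← mul_assoc, f_right, neg_mul, mul_assoc]
  have O : ∀ (k : Fin 4) (l : Fin 5) (M : Matrix (Fin 4) (Fin 4) F), l ≠ k.castSucc → l ≠ k.succ →
      Φ.f k * (Φ.e l * M) = -(Φ.e l * (Φ.f k * M)) :=
    fun k l M h1 h2 => by rw [← mul_assoc, f_other _ _ _ h1 h2, neg_mul, mul_assoc]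
  simp only [mul_assoc]
  fin_cases j
  · show _ * (_ * (_ * (_ * Φ.e 0))) = Φ.e 1 * _
    rw [f_other _ 3 0 (by decide) (by decide), mul_neg, O 2 0 _ (by decide) (by decide), neg_neg,
      O 1 0 _ (by decide) (by decide), mul_neg, show (0 : Fin 5) = (0 : Fin 4).castSucc from rfl, L, neg_neg]
    rfl
  · show _ * (_ * (_ * (_ * Φ.e 1))) = Φ.e 2 * _
    rw [f_other _ 3 1 (by decide) (by decide), mul_neg, O 2 1 _ (by decide) (by decide), neg_neg,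
      show (1 : Fin 5) = (1 : Fin 4).castSucc from rfl, L, mul_neg,
      show (1 : Fin 4).succ = (2 : Fin 5) from rfl, O 0 2 _ (by decide) (by decide), neg_neg]
  · show _ * (_ * (_ * (_ * Φ.e 2))) = Φ.e 3 * _
    rw [f_other _ 3 2 (by decide) (by decide), mul_neg, show (2 : Fin 5) = (2 : Fin 4).castSucc from rfl, L, neg_neg,
      show (2 : Fin 4).succ = (3 : Fin 5) from rfl, O 1 3 _ (by decide) (by decide), mul_neg,
      O 0 3 _ (by decide) (by decide), neg_neg]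
  · show _ * (_ * (_ * (_ * Φ.e 3))) = Φ.e 4 * _
    rw [show (3 : Fin 5) = (3 : Fin 4).castSucc from rfl, f_left, mul_neg,
      show (3 : Fin 4).succ = (4 : Fin 5) from rfl, O 2 4 _ (by decide) (by decide), neg_neg,
      O 1 4 _ (by decide) (by decide), mul_neg, O 0 4 _ (by decide) (by decide), neg_neg]
  · show _ * (_ * (_ * (_ * Φ.e 4))) = Φ.e 0 * _
    rw [show (4 : Fin 5) = (3 : Fin 4).succ from rfl, f_right, mul_neg,
      show (3 : Fin 4).castSucc = (2 : Fin 4).succ from rfl, R', neg_neg,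
      show (2 : Fin 4).castSucc = (1 : Fin 4).succ from rfl, R', mul_neg,
      show (1 : Fin 4).castSucc = (0 : Fin 4).succ from rfl, R', neg_neg]
    rfl

lemma G_conj_e (j : Fin 5) : Φ.G * Φ.e j * Φ.G' = Φ.e (j + 1) := by
  rw [G_e, mul_assoc, G_mul_G', mul_one]

lemma C_eq : Φ.C = (-Φ.i) • (Φ.B * (Φ.A * Φ.e 2)) := by
  have hi := Φ.hi
  simp [e, mul_assoc, Matrix.mul_smul, smul_smul, AA, BB, AA', BB', hi]

lemma D_eq : Φ.D = (-Φ.i) • (Φ.B * (Φ.A * Φ.e 3)) := by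
  have hi := Φ.hi
  simp [e, mul_assoc, Matrix.mul_smul, smul_smul, AA, BB, AA', BB', hi]

lemma conj_C : Φ.G * Φ.C * Φ.G' = (-Φ.i) • (Φ.e 2 * (Φ.e 1 * Φ.e 3)) := by
  have hG : Φ.G' * Φ.G = 1 := mul_eq_one_comm.1 Φ.G_mul_G'
  have h : ∀ M N, Φ.G * (M * N) * Φ.G' = (Φ.G * M * Φ.G') * (Φ.G * N * Φ.G') := fun M N => by
    rw [show Φ.G * M * Φ.G' * (Φ.G * N * Φ.G') = Φ.G * M * (Φ.G' * Φ.G) * N * Φ.G' by simp only [mul_assoc], hG,
      mul_one, mul_assoc Φ.G M N]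
  rw [C_eq, Matrix.mul_smul, Matrix.smul_mul, h, h, show Φ.B = Φ.e 1 from rfl, show Φ.A = Φ.e 0 from rfl,
    G_conj_e, G_conj_e, G_conj_e]
  rfl

lemma conj_D : Φ.G * Φ.D * Φ.G' = (-Φ.i) • (Φ.e 2 * (Φ.e 1 * Φ.e 4)) := by
  have hG : Φ.G' * Φ.G = 1 := mul_eq_one_comm.1 Φ.G_mul_G'
  have h : ∀ M N, Φ.G * (M * N) * Φ.G' = (Φ.G * M * Φ.G') * (Φ.G * N * Φ.G') := fun M N => by
    rw [show Φ.G * M * Φ.G' * (Φ.G * N * Φ.G') = Φ.G * M * (Φ.G' * Φ.G) * N * Φ.G' by simp only [mul_assoc], hG,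
      mul_one, mul_assoc Φ.G M N]
  rw [D_eq, Matrix.mul_smul, Matrix.smul_mul, h, h, show Φ.B = Φ.e 1 from rfl, show Φ.A = Φ.e 0 from rfl,
    G_conj_e, G_conj_e, G_conj_e]
  rfl

lemma e_mem (j : Fin 5) : ∃ x : R, mat R x = Φ.e j := by
  obtain ⟨z, hz⟩ := Φ.scal Φ.i Φ.i_pow_four
  fin_cases j
  · exact ⟨Φ.a, rfl⟩
  · exact ⟨Φ.b, rfl⟩
  · exact ⟨z * (Φ.a * Φ.b * Φ.c), by simp [e, map_mul, hz, Matrix.smul_mul, A, B, C]⟩
  · exact ⟨z * (Φ.a * Φ.b * Φ.d), by simp [e, map_mul, hz, Matrix.smul_mul, A, B, D]⟩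
  · exact ⟨Φ.a * Φ.b * (Φ.c * Φ.d), by simp [e, map_mul, A, B, C, D]⟩

theorem exists_G : ∃ g ∈ Cfsg.Geo.subgroupNormalizer R, (g : Matrix (Fin 4) (Fin 4) F) = Φ.G := by
  choose x hx using Φ.e_mem
  refine Φ.exists_normalizer Φ.G_mul_G' (x 1) (x 2) (x 2 * (x 1 * x 3)) (x 2 * (x 1 * x 4)) 1 1 (-Φ.i) (-Φ.i)
    (one_pow 4) (one_pow 4) Φ.neg_i_pow_four Φ.neg_i_pow_four ?_ ?_ ?_ ?_
  · rw [one_smul, hx]; exact Φ.G_conj_e 0
  · rw [one_smul, hx]; exact Φ.G_conj_e 1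
  · rw [map_mul, map_mul, hx, hx, hx]; exact Φ.conj_C
  · rw [map_mul, map_mul, hx, hx, hx]; exact Φ.conj_D

lemma G_pow_five : ∃ k : F, Φ.G ^ 5 = k • 1 := by
  have h : ∀ j, Φ.G ^ 5 * Φ.e j = Φ.e j * Φ.G ^ 5 := by
    intro j
    have h1 : ∀ (n : ℕ) (j : Fin 5), Φ.G ^ n * Φ.e j = Φ.e ((fun k : Fin 5 => k + 1)^[n] j) * Φ.G ^ n := by
      intro n
      induction n with
      | zero => intro j; simp
      | succ n ih =>
        intro j
        rw [pow_succ, mul_assoc, G_e, ← mul_assoc, ih, mul_assoc, Function.iterate_succ_apply]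
    have h5 : ∀ k : Fin 5, (fun k : Fin 5 => k + 1)^[5] k = k := by decide
    rw [h1, h5]
  refine Φ.scalar_of_commute _ (h 0) (h 1) ?_ ?_
  · conv_lhs => rw [C_eq]
    conv_rhs => rw [C_eq]
    rw [Matrix.mul_smul, Matrix.smul_mul, show Φ.B = Φ.e 1 from rfl, show Φ.A = Φ.e 0 from rfl]
    congr 1
    rw [← mul_assoc, h, mul_assoc, ← mul_assoc (Φ.G ^ 5) (Φ.e 0), h, mul_assoc, h]
    simp only [mul_assoc]
  · conv_lhs => rw [D_eq]
    conv_rhs => rw [D_eq]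
    rw [Matrix.mul_smul, Matrix.smul_mul, show Φ.B = Φ.e 1 from rfl, show Φ.A = Φ.e 0 from rfl]
    congr 1
    rw [← mul_assoc, h, mul_assoc, ← mul_assoc (Φ.G ^ 5) (Φ.e 0), h, mul_assoc, h]
    simp only [mul_assoc]

lemma G_not_scalar (k : F) : Φ.G ≠ k • 1 := by
  intro hk
  have h := Φ.G_e 0
  rw [hk, Matrix.smul_mul, one_mul, Matrix.mul_smul, mul_one] at h
  have hk0 : k ≠ 0 := by
    intro h0
    have := Φ.G_mul_G'
    rw [hk, h0, zero_smul, zero_mul] at this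
    exact zero_ne_one this
  have h' : Φ.A = Φ.B := smul_right_injective _ hk0 h
  have : Φ.t Φ.a = Φ.t Φ.b := by rw [mat_injective R (show mat R Φ.a = mat R Φ.b from h')]
  rw [t_a, t_b] at this
  exact absurd this (by decide)

end Cfsg.Agent.Lib.SympFour.Frame
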