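import Cfsg.Agent.Lib.SympFour.Common
import Cfsg.Agent.Lib.Semisimple.UnitaryModel

/-!
Unitary matrices of order three and five in dimension four, and the conjugate transposes of the elements normalising
a unitary symplectic-type group of order 64.
-/

set_option autoImplicit false

namespace Cfsg.Agent.Lib.SympFour

open Matrix Polynomial Semisimple

variable {F : Type*} [Field F] (σ : F →+* F)

lemma ct_neg' (M : Matrix (Fin 4) (Fin 4) F) : ct σ (-M) = -ct σ M := by
  rw [← neg_one_smul F M, ct_smul, map_neg, map_one, neg_one_smul]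

lemma ct_sub' (M N : Matrix (Fin 4) (Fin 4) F) : ct σ (M - N) = ct σ M - ct σ N := by
  rw [sub_eq_add_neg, ct_add, ct_neg', sub_eq_add_neg]

lemma dual_X_sub_C {c : F} (hc : c ≠ 0) : dual σ (X - C c) = X - C (σ c)⁻¹ := by
  have h0 : (X - C c : F[X]).coeff 0 ≠ 0 := by simpa using hc
  have hd : (dual σ (X - C c)).natDegree = 1 := by rw [dual_natDegree σ h0, natDegree_X_sub_C]
  rw [(dual_monic σ h0).eq_X_add_C hd, dual_coeff_zero σ (monic_X_sub_C c)]
  simp [inv_neg, sub_eq_add_neg]

lemma dual_pow (f : F[X]) (n : ℕ) : dual σ (f ^ n) = dual σ f ^ n := by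
  induction n with
  | zero => simp [dual]; rw [← C_1, reverse_C]
  | succ n ih => rw [pow_succ, dual_mul, ih, pow_succ]

lemma mult_eq {u v w : F} {a b c : ℕ} (huv : u ≠ v) (hvw : v ≠ w) {a' b' c' : ℕ}
    (h : (X - C u) ^ a * ((X - C v) ^ b * (X - C w) ^ c) = (X - C u) ^ a' * ((X - C v) ^ b' * (X - C w) ^ c')) :
    b = b' := by
  have hne : ∀ (t : F) (n : ℕ), (X - C t) ^ n ≠ 0 := fun t n => pow_ne_zero _ (X_sub_C_ne_zero t)
  have h' := congrArg (rootMultiplicity v) h
  rw [rootMultiplicity_mul (mul_ne_zero (hne u a) (mul_ne_zero (hne v b) (hne w c))),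
    rootMultiplicity_mul (mul_ne_zero (hne v b) (hne w c)),
    rootMultiplicity_mul (mul_ne_zero (hne u a') (mul_ne_zero (hne v b') (hne w c'))),
    rootMultiplicity_mul (mul_ne_zero (hne v b') (hne w c'))] at h'
  have h0 : ∀ (t : F) (n : ℕ), t ≠ v → rootMultiplicity v ((X - C t) ^ n) = 0 := fun t n ht => by
    refine rootMultiplicity_eq_zero ?_
    simp only [IsRoot, eval_pow, eval_sub, eval_X, eval_C]
    exact pow_ne_zero _ (sub_ne_zero.2 (Ne.symm ht))
  simpa [rootMultiplicity_X_sub_C_pow, h0 u _ huv, h0 w _ hvw.symm] using h'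

/-- A unitary matrix of order three with cube roots of unity fixed by the involution. -/
theorem charpoly_cube_unitary [Fintype F] {A : Matrix (Fin 4) (Fin 4) F} {w : F} (hw : w * w + w + 1 = 0) (h3 : (3 : F) ≠ 0)
    (hσw : σ w = w) (hA : A ^ 3 = 1) (hne : A ≠ 1) (hu : ct σ A * A = 1) :
    ∃ a b : ℕ, a + 2 * b = 4 ∧ 1 ≤ b ∧ A.charpoly = (X - C 1) ^ a * ((X - C w) * (X - C (w * w))) ^ b ∧
      A.trace = (a : F) - b := by
  have hw0 : w ≠ 0 := fun h => by simp [h] at hw
  have hw3 : w * (w * w) = 1 := by linear_combination (w - 1) * hw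
  have hw1 : (1 : F) ≠ w := fun h => h3 (by rw [← h] at hw; linear_combination hw)
  have hw2 : (1 : F) ≠ w * w := fun h => hw1 (by linear_combination -hw3 + w * (-h))
  have hww : w ≠ w * w := fun h => hw1 (mul_left_cancel₀ hw0 (by linear_combination h))
  let r : Fin 3 → F[X] := ![X - C 1, X - C w, X - C (w * w)]
  have hinj : Function.Injective r := by
    intro i j hij
    have h' : ![1, w, w * w] i = ![1, w, w * w] j := by
      fin_cases i <;> fin_cases j <;> simp only [r] at hij <;> simp at hij ⊢ <;>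
        first
          | (have := congrArg (fun f : F[X] => f.coeff 0) hij; simp at this; first | exact this | exact this.symm)
          | skip
    fin_cases i <;> fin_cases j <;> simp at h' ⊢ <;>
      first | exact hw1 h' | exact hw1 h'.symm | exact hw2 h' | exact hw2 h'.symm | exact hww h' | exact hww h'.symm | exact hw1 (mul_left_cancel₀ hw0 (by linear_combination h'))
  have h0 : aeval A (∏ j, r j) = 0 := by
    have hC : (X - C 1) * ((X - C w) * (X - C (w * w))) = (X ^ 3 - C 1 : F[X]) := by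
      have e1 : (C w : F[X]) * C w + C w + C 1 = 0 := by rw [← map_mul, ← map_add, ← map_add, hw, map_zero]
      simp only [map_mul, map_one] at e1 ⊢
      linear_combination (-(X ^ 2) + C w * X + (1 - C w)) * e1
    rw [Fin.prod_univ_three]
    simp only [r, Matrix.cons_val_zero, Matrix.cons_val_one, Matrix.cons_val_two, Matrix.tail_cons, Matrix.head_cons,
      mul_assoc, hC]
    simp [hA]
  obtain ⟨k, hk, hdeg, htr, hu'⟩ := charpoly_prod r (fun j => by fin_cases j <;> exact irreducible_X_sub_C _)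
    (fun j => by fin_cases j <;> exact monic_X_sub_C _) hinj A h0
  simp only [Fin.prod_univ_three, Fin.sum_univ_three, r, Matrix.cons_val_zero, Matrix.cons_val_one,
    Matrix.cons_val_two, Matrix.tail_cons, Matrix.head_cons, natDegree_X_sub_C, nextCoeff_X_sub_C, mul_one,
    map_mul (aeval A)] at hk hdeg htr h0
  rw [mul_assoc] at hk
  obtain ⟨-, -, hdual⟩ := dual_charpoly σ A hu
  rw [hk, dual_mul, dual_mul, dual_pow, dual_pow, dual_pow, dual_X_sub_C σ one_ne_zero, dual_X_sub_C σ hw0,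
    dual_X_sub_C σ (mul_ne_zero hw0 hw0), map_one, inv_one, map_mul, hσw,
    show w⁻¹ = w * w from (eq_inv_of_mul_eq_one_right hw3).symm,
    show (w * w)⁻¹ = w from (eq_inv_of_mul_eq_one_left hw3).symm,
    mul_comm ((X - C (w * w)) ^ k 1)] at hdual
  have hk12 : k 2 = k 1 := mult_eq hw1 hww hdual
  have hk1 : 1 ≤ k 1 := by
    by_contra h
    have e : aeval A (X - C 1 : F[X]) = 0 := by
      refine eq_zero_of_unit_mul (hu' 2 (by omega)) (eq_zero_of_unit_mul (hu' 1 (by omega)) ?_)
      show aeval A (X - C w) * (aeval A (X - C (w * w)) * aeval A (X - C 1 : F[X])) = 0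
      rw [← map_mul, ← map_mul, ← mul_assoc, mul_comm _ (X - C 1 : F[X]), ← mul_assoc, map_mul, map_mul]
      exact h0
    exact hne (by simpa [sub_eq_zero] using e)
  refine ⟨k 0, k 1, by omega, hk1, ?_, ?_⟩
  · rw [hk, mul_pow, hk12]
  · rw [htr, hk12]
    linear_combination (k 1 : F) * hw

/-- A unitary matrix of order five whose eigenvalues come in two conjugate quadratic factors swapped by the
involution. -/
theorem charpoly_five_unitary {A : Matrix (Fin 4) (Fin 4) F} {s : F} (hs : s * s + s = 1) (h5 : (5 : F) ≠ 0)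
    (hswap : σ s ≠ s) (hroot : ∀ w : F, w ^ 5 = 1 → w = 1) (hA : A ^ 5 = 1) (hne : A ≠ 1) (hu : ct σ A * A = 1) :
    A.charpoly = (X ^ 2 - C s * X + C 1) * (X ^ 2 - C (-1 - s) * X + C 1) := by
  set q₁ : F[X] := X ^ 2 - C s * X + C 1 with hq₁
  set q₂ : F[X] := X ^ 2 - C (-1 - s) * X + C 1 with hq₂
  have qfacts : ∀ t : F, t * t + t = 1 → (X ^ 2 - C t * X + C 1 : F[X]).Monic ∧
      (X ^ 2 - C t * X + C 1 : F[X]).natDegree = 2 ∧ Irreducible (X ^ 2 - C t * X + C 1 : F[X]) := by
    intro t ht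
    have hm : (X ^ 2 - C t * X + C 1 : F[X]).Monic := by monicity!
    have hd : (X ^ 2 - C t * X + C 1 : F[X]).natDegree = 2 := by compute_degree!
    refine ⟨hm, hd, irreducible_of_degree_le_three_of_not_isRoot (by rw [hd]; decide) fun w hw => ?_⟩
    simp at hw
    have hw5 : w ^ 5 = 1 := by linear_combination (w - 1) * (w * w - (-1 - t) * w + 1) * hw + w ^ 2 * (w - 1) * ht
    rw [hroot w hw5] at hw
    exact h5 (by linear_combination ht + (t + 3) * hw)
  have hs' : (-1 - s) * (-1 - s) + (-1 - s) = 1 := by linear_combination hs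
  obtain ⟨hm₁, hd₁, hi₁⟩ := qfacts s hs
  obtain ⟨hm₂, hd₂, hi₂⟩ := qfacts _ hs'
  rw [← hq₁] at hm₁ hd₁ hi₁
  rw [← hq₂] at hm₂ hd₂ hi₂
  have hne12 : q₁ ≠ q₂ := fun h => by
    have h' := congrArg (fun f : F[X] => f.coeff 1) h
    simp [hq₁, hq₂, coeff_one] at h'
    exact h5 (by linear_combination (-(2 * s + 1)) * h' - 4 * hs)
  let r : Fin 3 → F[X] := ![X - C 1, q₁, q₂]
  have hinj : Function.Injective r := by
    have e1 : X - C 1 ≠ q₁ := fun h => by
      have := congrArg natDegree h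
      rw [natDegree_X_sub_C, hd₁] at this
      omega
    have e2 : X - C 1 ≠ q₂ := fun h => by
      have := congrArg natDegree h
      rw [natDegree_X_sub_C, hd₂] at this
      omega
    intro i j hij
    fin_cases i <;> fin_cases j <;> simp [r] at hij ⊢ <;>
      first | exact e1 hij | exact e1 hij.symm | exact e2 hij | exact e2 hij.symm | exact hne12 hij | exact hne12 hij.symm | skip
  have hprod : (X - C 1) * (q₁ * q₂) = (X ^ 5 - C 1 : F[X]) := by
    have e1 : (C s : F[X]) * C s + C s = C 1 := by rw [← map_mul, ← map_add, hs]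
    simp only [hq₁, hq₂, map_sub, map_neg, map_one] at e1 ⊢
    linear_combination (-(X ^ 3) + X ^ 2) * e1
  have h0 : aeval A (∏ j, r j) = 0 := by
    rw [Fin.prod_univ_three]
    simp only [r, Matrix.cons_val_zero, Matrix.cons_val_one, Matrix.cons_val_two, Matrix.tail_cons, Matrix.head_cons,
      mul_assoc, hprod]
    simp [hA]
  obtain ⟨k, hk, hdeg, -, hu'⟩ := charpoly_prod r (fun j => by
      fin_cases j
      · exact irreducible_X_sub_C _
      · exact hi₁
      · exact hi₂)
    (fun j => by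
      fin_cases j
      · exact monic_X_sub_C _
      · exact hm₁
      · exact hm₂) hinj A h0
  simp only [Fin.prod_univ_three, Fin.sum_univ_three, r, Matrix.cons_val_zero, Matrix.cons_val_one,
    Matrix.cons_val_two, Matrix.tail_cons, Matrix.head_cons, natDegree_X_sub_C, hd₁, hd₂, mul_one,
    map_mul] at hk hdeg h0
  -- a single quadratic factor is impossible
  have one_factor : ∀ t : F, σ t ≠ t → aeval A ((X - C 1) * (X ^ 2 - C t * X + C 1) : F[X]) = 0 → False := by
    intro t ht h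
    simp [Algebra.algebraMap_eq_smul_one, pow_two, Matrix.smul_mul, one_mul] at h
    have h' := congrArg (ct σ) h
    rw [ct_mul, ct_add, ct_sub' σ (A * A), ct_sub' σ A, ct_mul, ct_smul, ct_one] at h'
    rw [show ct σ (0 : Matrix (Fin 4) (Fin 4) F) = 0 by ext i j; simp [ct]] at h'
    have hinv : A * ct σ A = 1 := mul_eq_one_comm.1 hu
    have hinv' : ∀ M, A * (ct σ A * M) = M := fun M => by rw [← mul_assoc, hinv, one_mul]
    have h'' := congrArg (fun M => A * (A * (A * M))) h'
    simp only [mul_zero, mul_sub, sub_mul, mul_add, add_mul, Matrix.mul_smul, Matrix.smul_mul, one_mul, mul_one,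
      mul_assoc, hinv, hinv'] at h''
    simp only [mul_sub, sub_mul, mul_add, add_mul, Matrix.mul_smul, one_mul, mul_one, mul_assoc] at h
    have key : (t - σ t) • (A * A - A) = 0 := by linear_combination (norm := module) (-1 : F) • h - h''
    have h2 := (smul_eq_zero.1 key).resolve_left (sub_ne_zero.2 (Ne.symm ht))
    apply hne
    calc A = ct σ A * (A * A) := by rw [← mul_assoc, hu, one_mul]
      _ = 1 := by rw [sub_eq_zero.1 h2, hu]
  have hswap' : σ (-1 - s) ≠ -1 - s := fun h => hswap (by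
    rw [map_sub, map_neg, map_one] at h
    exact sub_right_injective h)
  have hk1 : 1 ≤ k 1 := by
    by_contra h
    refine one_factor _ hswap' (eq_zero_of_unit_mul (hu' 1 (by omega)) ?_)
    show aeval A q₁ * aeval A ((X - C 1) * q₂ : F[X]) = 0
    rw [← map_mul, mul_left_comm, ← mul_assoc, map_mul, map_mul]
    exact h0
  have hk2 : 1 ≤ k 2 := by
    by_contra h
    refine one_factor _ hswap (eq_zero_of_unit_mul (hu' 2 (by omega)) ?_)
    show aeval A q₂ * aeval A ((X - C 1) * q₁ : F[X]) = 0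
    rw [← map_mul, mul_comm, map_mul, map_mul]
    exact h0
  rw [hk, show k 0 = 0 by omega, show k 1 = 1 by omega, show k 2 = 1 by omega]
  simp

/-- A unitary element is conjugate into the normaliser through a unitary element with the same polynomial. -/
theorem exists_special_conj [Fintype F] {p : ℕ} [Fact p.Prime] [CharP F p] (hσ : ∀ x, σ (σ x) = x)
    (hne : ∃ x, σ x ≠ x) {x y : Matrix (Fin 4) (Fin 4) F} (hx : ct σ x * x = 1) (hy : ct σ y * y = 1) {n : ℕ}
    (hn : n.Coprime p) (hxn : x ^ n = 1) (hyn : y ^ n = 1) (hc : x.charpoly = y.charpoly) :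
    ∃ g : GL (Fin 4) F, (g : Matrix (Fin 4) (Fin 4) F).det = 1 ∧
      ct σ (g : Matrix (Fin 4) (Fin 4) F) * (g : Matrix (Fin 4) (Fin 4) F) = 1 ∧
      ((g⁻¹ : GL (Fin 4) F) : Matrix (Fin 4) (Fin 4) F) * x * (g : Matrix (Fin 4) (Fin 4) F) = y := by
  obtain ⟨U, hU, hUd, hUx⟩ := exists_special_unitary_conj (p := p) σ hσ hne hx hy hn hxn hn hyn hc
  have hU' : U * ct σ U = 1 := mul_eq_one_comm.1 hU
  refine ⟨⟨ct σ U, U, hU, hU'⟩, ?_, ?_, ?_⟩
  · show (ct σ U).det = 1
    have h := congrArg Matrix.det hU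
    rwa [Matrix.det_mul, hUd, mul_one, Matrix.det_one] at h
  · show ct σ (ct σ U) * ct σ U = 1
    rw [ct_ct σ hσ, hU']
  · show U * x * ct σ U = y
    rw [hUx, mul_assoc, hU', mul_one]

namespace Frame

variable {R : Subgroup (GL (Fin 4) F)} (Φ : Frame R) {σ}

lemma ct_mat (hu : ∀ x : R, ct σ (mat R x) * mat R x = 1) (x : R) (hx : mat R x * mat R x = 1) :
    ct σ (mat R x) = mat R x := by
  calc ct σ (mat R x) = ct σ (mat R x) * (mat R x * mat R x) := by rw [hx, mul_one]
    _ = mat R x := by rw [← mul_assoc, hu, one_mul]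

variable (hu : ∀ x : R, ct σ (mat R x) * mat R x = 1) (hi : σ Φ.i = -Φ.i)

include hu in
lemma ct_gens : ct σ Φ.A = Φ.A ∧ ct σ Φ.B = Φ.B ∧ ct σ Φ.C = Φ.C ∧ ct σ Φ.D = Φ.D :=
  ⟨ct_mat hu _ Φ.haa, ct_mat hu _ Φ.hbb, ct_mat hu _ Φ.hcc, ct_mat hu _ Φ.hdd⟩

include hu in
lemma ct_T : ct σ Φ.T = Φ.T := by
  obtain ⟨hA, -, hC, -⟩ := Φ.ct_gens hu
  simp only [T, ct_smul, ct_add, ct_sub', ct_mul, ct_one, hA, hC, map_inv₀, map_ofNat, CA]

include hu hi in
lemma ct_U : ct σ Φ.U = Φ.U' := by
  obtain ⟨hA, hB, -, -⟩ := Φ.ct_gens hu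
  simp only [U, U', ct_smul, ct_add, ct_sub', ct_neg', ct_mul, ct_one, hA, hB, hi, map_inv₀, map_ofNat, BA]
  module

include hu hi in
lemma ct_W : ct σ Φ.W = Φ.W' := by
  obtain ⟨-, -, hC, hD⟩ := Φ.ct_gens hu
  simp only [W, W', ct_smul, ct_add, ct_sub', ct_neg', ct_mul, ct_one, hC, hD, hi, map_inv₀, map_ofNat, DC]
  module

include hu hi in
lemma ct_e (j : Fin 5) : ct σ (Φ.e j) = Φ.e j := by
  obtain ⟨hA, hB, hC, hD⟩ := Φ.ct_gens hu
  fin_cases j <;>
    simp [e, ct_mul, ct_smul, hA, hB, hC, hD, hi, mul_assoc, BA, CA, CB, DA, DB, DC,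
      BA', CA', CB', DA', DB', DC']

include hu hi in
lemma ct_G : ct σ Φ.G = Φ.G' := by
  simp only [G, G', f, ct_smul, ct_mul, ct_sub', Φ.ct_e hu hi, map_inv₀, map_ofNat, mul_assoc]

end Frame

end Cfsg.Agent.Lib.SympFour
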